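import Mathlib
import Cfsg.Agent.Helper17.ONTC.Orb
import Cfsg.Agent.Helper17.ONS1TC.Perm
import Cfsg.Agent.Helper17.ONS2TC.Perm

set_option autoImplicit false
set_option linter.all false

noncomputable section

namespace Cfsg.Agent.Helper17.ONOrd

open Cfsg.Spor Cfsg.Agent.Helper17.ONSub

theorem card_dvd_step' {P G : Type*} [Group P] [Group G] (φ : P →* G) (H : Subgroup G)
    (hH : H = φ.range) (K : Subgroup P) (n m : ℕ) (hidx : K.index = n) (hK : Nat.card K ∣ m) :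
    Nat.card H ∣ n * m := by
  subst hH
  have h1 : Nat.card φ.range ∣ Nat.card P := Subgroup.card_range_dvd φ
  have h2 : Nat.card K * K.index = Nat.card P := Subgroup.card_mul_index K
  rw [← h2, hidx, mul_comm] at h1
  exact h1.trans (Nat.mul_dvd_mul_left n hK)

/-! ### level 1 : ONS1 → ON -/

def emb1 : ONS1.Gen → ON.Gen
  | .a => .a
  | .b => .b
  | .c => .c
  | .d => .d
  | .e => .e
  | .f => .f

def f1 (x : ONS1.Gen) : ONTC.G := PresentedGroup.of (emb1 x)

theorem lab1 (x y : ONS1.Gen) :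
    coxLabel ONS1.edges x y = coxLabel ON.edges (emb1 x) (emb1 y) := by
  cases x <;> cases y <;> decide

theorem rel1 : ∀ r ∈ ONS1TC.Rels, FreeGroup.lift f1 r = 1 := by
  intro r hr
  rcases hr with ⟨x, _, y, _, rfl⟩ | hr
  · rw [map_pow, map_mul, FreeGroup.lift_apply_of, FreeGroup.lift_apply_of, lab1]
    exact ONTC.cox (emb1 x) (emb1 y) (by cases x <;> decide) (by cases y <;> decide)
  · simp only [Set.mem_setOf_eq, ONS1.extra, List.mem_cons, List.mem_singleton, List.not_mem_nil,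
      or_false] at hr
    rcases hr with rfl
    · have h := ONTC.extra_one (r := (ON.a * ON.f) * (((ON.c * ON.d) ^ 4)⁻¹)) (by simp [ON.extra])
      simpa [f1, emb1, ONTC.mk_of] using h

def phi1 : ONS1TC.G →* ONTC.G := PresentedGroup.toGroup rel1

theorem phi1_of (x : ONS1.Gen) : phi1 (PresentedGroup.of x) = f1 x :=
  PresentedGroup.toGroup.of rel1

theorem range1 : ONTC.Hs = phi1.range := by
  have h1 : phi1.range = Subgroup.closure (Set.range f1) := by
    rw [MonoidHom.range_eq_map, ← PresentedGroup.closure_range_of, MonoidHom.map_closure]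
    congr 1
    ext g
    constructor
    · rintro ⟨_, ⟨x, rfl⟩, rfl⟩; exact ⟨x, (phi1_of x).symm⟩
    · rintro ⟨x, rfl⟩; exact ⟨_, ⟨x, rfl⟩, phi1_of x⟩
  rw [h1, ONTC.Hs, MonoidHom.map_closure]
  congr 1
  ext g
  constructor
  · rintro ⟨s, hs, rfl⟩
    simp only [Set.mem_insert_iff, Set.mem_singleton_iff] at hs
    rcases hs with rfl | rfl | rfl | rfl | rfl | rfl
    · exact ⟨.a, rfl⟩
    · exact ⟨.b, rfl⟩
    · exact ⟨.c, rfl⟩
    · exact ⟨.d, rfl⟩
    · exact ⟨.e, rfl⟩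
    · exact ⟨.f, rfl⟩
  · rintro ⟨x, rfl⟩
    cases x
    · exact ⟨ON.a, by simp, rfl⟩
    · exact ⟨ON.b, by simp, rfl⟩
    · exact ⟨ON.c, by simp, rfl⟩
    · exact ⟨ON.d, by simp, rfl⟩
    · exact ⟨ON.e, by simp, rfl⟩
    · exact ⟨ON.f, by simp, rfl⟩

/-! ### level 2 : ONS2 → ONS1 -/

def emb2 : ONS2.Gen → ONS1.Gen
  | .a => .a
  | .b => .b
  | .c => .c
  | .e => .e
  | .f => .f

def f2 (x : ONS2.Gen) : ONS1TC.G := PresentedGroup.of (emb2 x)

theorem lab2 (x y : ONS2.Gen) :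
    coxLabel ONS2.edges x y = coxLabel ONS1.edges (emb2 x) (emb2 y) := by
  cases x <;> cases y <;> decide

theorem rel2 : ∀ r ∈ ONS2TC.Rels, FreeGroup.lift f2 r = 1 := by
  intro r hr
  rcases hr with ⟨x, _, y, _, rfl⟩ | hr
  · rw [map_pow, map_mul, FreeGroup.lift_apply_of, FreeGroup.lift_apply_of, lab2]
    exact ONS1TC.cox (emb2 x) (emb2 y)
  · simp [ONS2.extra] at hr

def phi2 : ONS2TC.G →* ONS1TC.G := PresentedGroup.toGroup rel2

theorem phi2_of (x : ONS2.Gen) : phi2 (PresentedGroup.of x) = f2 x :=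
  PresentedGroup.toGroup.of rel2

theorem range2 : ONS1TC.Hs = phi2.range := by
  have h1 : phi2.range = Subgroup.closure (Set.range f2) := by
    rw [MonoidHom.range_eq_map, ← PresentedGroup.closure_range_of, MonoidHom.map_closure]
    congr 1
    ext g
    constructor
    · rintro ⟨_, ⟨x, rfl⟩, rfl⟩; exact ⟨x, (phi2_of x).symm⟩
    · rintro ⟨x, rfl⟩; exact ⟨_, ⟨x, rfl⟩, phi2_of x⟩
  rw [h1, ONS1TC.Hs, MonoidHom.map_closure]
  congr 1
  ext g
  constructor
  · rintro ⟨s, hs, rfl⟩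
    simp only [Set.mem_insert_iff, Set.mem_singleton_iff] at hs
    rcases hs with rfl | rfl | rfl | rfl | rfl
    · exact ⟨.a, rfl⟩
    · exact ⟨.b, rfl⟩
    · exact ⟨.c, rfl⟩
    · exact ⟨.e, rfl⟩
    · exact ⟨.f, rfl⟩
  · rintro ⟨x, rfl⟩
    cases x
    · exact ⟨ONS1.a, by simp, rfl⟩
    · exact ⟨ONS1.b, by simp, rfl⟩
    · exact ⟨ONS1.c, by simp, rfl⟩
    · exact ⟨ONS1.e, by simp, rfl⟩
    · exact ⟨ONS1.f, by simp, rfl⟩

/-! ### bottom -/

theorem card_bot : Nat.card ONS2TC.Hs ∣ 2 := by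
  have h : ONS2TC.Hs = Subgroup.zpowers (ONS2TC.gG 0) := by
    rw [ONS2TC.Hs, MonoidHom.map_closure, Set.image_singleton, Subgroup.zpowers_eq_closure]
    rfl
  rw [h, Nat.card_zpowers]
  apply orderOf_dvd_of_pow_eq_one
  rw [pow_two]
  exact ONS2TC.gG_mul_self 0

theorem idxL1 : ONS1TC.Hs.index = 26068 := by
  rw [Subgroup.index_eq_card]; exact ONS1TC.card_Q

theorem idxL2 : ONS2TC.Hs.index = 72 := by
  rw [Subgroup.index_eq_card]; exact ONS2TC.card_Q

theorem idxTop : ONTC.Hs.index = 122760 := by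
  rw [Subgroup.index_eq_card]; exact ONTC.card_Q

theorem card_Hs_dvd : Nat.card ONTC.Hs ∣ 3753792 := by
  have h2 := card_dvd_step' phi2 ONS1TC.Hs range2 ONS2TC.Hs 72 _ idxL2 card_bot
  have h1 := card_dvd_step' phi1 ONTC.Hs range1 ONS1TC.Hs 26068 _ idxL1 h2
  exact h1

theorem card_G_eq : Nat.card ONTC.G = Nat.card ONTC.Hs * 122760 := by
  rw [← idxTop, Subgroup.card_mul_index]

theorem card_G_dvd : Nat.card ONTC.G ∣ 460815505920 := by
  rw [card_G_eq]
  exact (Nat.mul_dvd_mul_right card_Hs_dvd 122760).trans (by norm_num)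

end Cfsg.Agent.Helper17.ONOrd
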