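import Mathlib
import Cfsg.Agent.Helper17.ONOrd.Upper

/-! Lower bound `460815505920 ≤ |ON|` through a stabiliser chain on the 122760 points, and
consequences: the order, faithfulness of the permutation representation, triviality of the
pointwise stabiliser of the base. -/

set_option autoImplicit false
set_option linter.all false
set_option maxRecDepth 100000

noncomputable section

namespace Cfsg.Agent.Helper17.ONOrd

open Cfsg.Spor Cfsg.Agent.Helper17.ONTC

theorem phi_prodw (w : List ℕ) (h : ∀ l ∈ w, l < nl) : phi (prodw w) = permw w := by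
  induction w with
  | nil => simp [prodw, permw]
  | cons l w ih =>
    rw [prodw, permw, map_mul, phi_gG _ (h l (List.mem_cons_self ..)),
      ih (fun x hx => h x (List.mem_cons_of_mem _ hx))]

theorem phi_prodw_apply (w : List ℕ) (h : ∀ l ∈ w, l < nl) (i : ℕ) :
    phi (prodw w) i = evalw w i := by
  rw [phi_prodw w h, permw_apply]

/-- the stabiliser of a point under `phi`. -/
def stabP (β : ℕ) : Subgroup G := (MulAction.stabilizer (Equiv.Perm ℕ) β).comap phi

theorem mem_stabP {β : ℕ} {g : G} : g ∈ stabP β ↔ phi g β = β := by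
  rw [stabP, Subgroup.mem_comap, MulAction.mem_stabilizer_iff, Equiv.Perm.smul_def]

/-- pointwise stabiliser of a list of points. -/
def Kof : List ℕ → Subgroup G
  | [] => ⊤
  | b :: bs => Kof bs ⊓ stabP b

theorem mem_Kof {bs : List ℕ} {g : G} : g ∈ Kof bs ↔ ∀ b ∈ bs, phi g b = b := by
  induction bs with
  | nil => simp [Kof]
  | cons b bs ih =>
    rw [Kof, Subgroup.mem_inf, ih, mem_stabP]
    simp only [List.mem_cons, forall_eq_or_imp]
    tauto

theorem step [Finite G] (K : Subgroup G) (β : ℕ) (O : Finset ℕ)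
    (h : ∀ p ∈ O, ∃ k ∈ K, phi k β = p) :
    O.card * Nat.card ↥(K ⊓ stabP β) ≤ Nat.card K := by
  classical
  set S : Subgroup K := (stabP β).subgroupOf K with hS
  have hcard : Nat.card S = Nat.card ↥(K ⊓ stabP β) := by
    rw [hS, ← Subgroup.inf_subgroupOf_left]
    exact Nat.card_congr (Subgroup.subgroupOfEquivOfLe inf_le_left).toEquiv
  have hidx : O.card ≤ S.index := by
    rw [Subgroup.index_eq_card]
    choose! f hfK hf using h
    have : Function.Injective (fun p : O => ((⟨f p.1, hfK p.1 p.2⟩ : K) : K ⧸ S)) := by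
      intro p q hpq
      simp only at hpq
      rw [QuotientGroup.eq] at hpq
      rw [hS, Subgroup.mem_subgroupOf, mem_stabP] at hpq
      simp only [Subgroup.coe_mul, Subgroup.coe_inv, map_mul, map_inv,
        Equiv.Perm.mul_apply] at hpq
      rw [hf q.1 q.2, Equiv.Perm.inv_eq_iff_eq, hf p.1 p.2] at hpq
      exact Subtype.ext hpq.symm
    have := Nat.card_le_card_of_injective _ this
    simpa using this
  calc O.card * Nat.card ↥(K ⊓ stabP β) = O.card * Nat.card S := by rw [hcard]
    _ ≤ S.index * Nat.card S := Nat.mul_le_mul_right _ hidx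
    _ = Nat.card K := by rw [mul_comm]; exact Subgroup.card_mul_index S

/-! ### tree certificates -/

def chkTree (W : List (List ℕ)) : List (ℕ × ℕ × ℕ) → ℕ → Bool
  | [], _ => true
  | (p, q, k) :: t, m =>
    m.testBit q && !m.testBit p && (evalw (W.getD k []) q == p) &&
      chkTree W t (m ||| (1 <<< p))

def wordsOK (bs : List ℕ) (W : List (List ℕ)) : Bool :=
  W.all fun w => (w.all fun l => decide (l < nl)) && bs.all fun b => evalw w b == b

theorem word_mem {bs : List ℕ} {W : List (List ℕ)} (h : wordsOK bs W = true) (k : ℕ) :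
    (∀ l ∈ W.getD k [], l < nl) ∧ prodw (W.getD k []) ∈ Kof bs := by
  by_cases hk : k < W.length
  · have hm : W.getD k [] ∈ W := by
      rw [List.getD_eq_getElem _ _ hk]; exact List.getElem_mem hk
    simp only [wordsOK, List.all_eq_true, Bool.and_eq_true, decide_eq_true_eq, beq_iff_eq] at h
    obtain ⟨h1, h2⟩ := h _ hm
    refine ⟨h1, ?_⟩
    rw [mem_Kof]
    intro b hb
    rw [phi_prodw_apply _ h1]
    exact h2 b hb
  · rw [List.getD_eq_default _ _ (not_lt.mp hk)]
    exact ⟨by simp, by simp [prodw, (Kof bs).one_mem]⟩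

theorem testBit_lor_shift (m p x : ℕ) :
    (m ||| (1 <<< p)).testBit x = (m.testBit x || decide (p = x)) := by
  rw [Nat.testBit_or, Nat.one_shiftLeft, Nat.testBit_two_pow]

theorem reach_of_chkTree {bs : List ℕ} {W : List (List ℕ)} (hW : wordsOK bs W = true) (β : ℕ) :
    ∀ (l : List (ℕ × ℕ × ℕ)) (m : ℕ) (seen : List ℕ),
      (∀ x, m.testBit x = true ↔ x ∈ seen) → seen.Nodup →
      (∀ p ∈ seen, ∃ g ∈ Kof bs, phi g β = p) → chkTree W l m = true →
      ∃ S : Finset ℕ, S.card = seen.length + l.length ∧ ∀ p ∈ S, ∃ g ∈ Kof bs, phi g β = p := by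
  intro l
  induction l with
  | nil =>
    intro m seen _ hnd hs _
    refine ⟨seen.toFinset, ?_, ?_⟩
    · rw [List.toFinset_card_of_nodup hnd]; simp
    · intro p hp; exact hs p (List.mem_toFinset.mp hp)
  | cons x t ih =>
    obtain ⟨p, q, k⟩ := x
    intro m seen hm hnd hs hc
    simp only [chkTree, Bool.and_eq_true, Bool.not_eq_eq_eq_not, Bool.not_true,
      beq_iff_eq] at hc
    obtain ⟨⟨⟨hq, hp⟩, he⟩, ht⟩ := hc
    have hq' : q ∈ seen := (hm q).mp hq
    have hp' : p ∉ seen := by
      intro h
      have := (hm p).mpr h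
      rw [hp] at this
      exact Bool.false_ne_true this
    have hA : ∀ x, (m ||| (1 <<< p)).testBit x = true ↔ x ∈ p :: seen := by
      intro x
      rw [testBit_lor_shift, Bool.or_eq_true, hm x, decide_eq_true_eq, List.mem_cons]
      constructor
      · rintro (h | h)
        · exact Or.inr h
        · exact Or.inl h.symm
      · rintro (h | h)
        · exact Or.inr h.symm
        · exact Or.inl h
    have hB : (p :: seen).Nodup := List.nodup_cons.mpr ⟨hp', hnd⟩
    have hC : ∀ p' ∈ p :: seen, ∃ g ∈ Kof bs, phi g β = p' := by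
      intro p' hp''
      rcases List.mem_cons.mp hp'' with rfl | hp''
      · obtain ⟨g, hg, hgq⟩ := hs q hq'
        obtain ⟨hl, hmw⟩ := word_mem hW k
        refine ⟨prodw (W.getD k []) * g, (Kof bs).mul_mem hmw hg, ?_⟩
        rw [map_mul, Equiv.Perm.mul_apply, hgq, phi_prodw_apply _ hl, he]
      · exact hs p' hp''
    obtain ⟨S, hS, hS2⟩ := ih (m ||| (1 <<< p)) (p :: seen) hA hB hC ht
    refine ⟨S, ?_, hS2⟩
    rw [hS, List.length_cons, List.length_cons]; omega

theorem level [Finite G] {bs : List ℕ} {W : List (List ℕ)} (hW : wordsOK bs W = true) (β : ℕ)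
    (T : List (ℕ × ℕ × ℕ)) (hT : chkTree W T (1 <<< β) = true) (n : ℕ)
    (hn : T.length + 1 = n) :
    n * Nat.card ↥(Kof (β :: bs)) ≤ Nat.card ↥(Kof bs) := by
  have hA : ∀ x, (1 <<< β).testBit x = true ↔ x ∈ [β] := by
    intro x
    rw [Nat.one_shiftLeft, Nat.testBit_two_pow, decide_eq_true_eq, List.mem_singleton]
    exact eq_comm
  have hB : [β].Nodup := by simp
  have hC : ∀ p ∈ [β], ∃ g ∈ Kof bs, phi g β = p := by
    intro p hp
    rw [List.mem_singleton] at hp
    subst hp
    exact ⟨1, (Kof bs).one_mem, by simp⟩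
  obtain ⟨S, hS, hS2⟩ := reach_of_chkTree hW β T (1 <<< β) [β] hA hB hC hT
  have hcard : S.card = n := by rw [hS, ← hn]; simp; omega
  rw [← hcard]
  exact step (Kof bs) β S hS2

def W3 : List (List ℕ) :=
   [[2],
    [4],
    [5],
    [6],
    [7]]

def T3 : List (ℕ × ℕ × ℕ) :=
  [(306, 139, 0), (246, 139, 1), (307, 139, 2), (278, 139, 3), (308, 139, 4), (546, 306, 1), (657, 306, 2), (592, 306, 3), (647, 306, 4), (547, 246, 2), (501, 246, 3), (548, 246, 4), (660, 307, 1), (661, 307, 3), (662, 307, 4), (593, 278, 2), (594, 278, 4), (663, 308, 3), (1220, 546, 2), (1117, 546, 3), (1210, 546, 4), (1467, 657, 1), (1468, 657, 3), (1439, 657, 4), (1311, 592, 2), (1302, 592, 4), (1440, 647, 3), (1223, 547, 1), (1224, 547, 3), (1225, 547, 4), (1118, 501, 2), (1119, 501, 4), (1226, 548, 3), (1478, 660, 2), (1479, 660, 3), (1480, 660, 4), (1315, 661, 2), (1483, 661, 4), (1484, 662, 3), (1314, 593, 1), (1316, 593, 4), (1317, 594, 3), (1487, 663, 2), (2737, 1220, 1), (2738, 1220, 3), (2711, 1220, 4), (2496, 1117,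 2), (2487, 1117, 4), (2712, 1210, 3), (3244, 1467, 2), (3245, 1467, 3), (3190, 1467, 4), (2929, 1468, 2), (3248, 1468, 4), (3191, 1439, 3), (2928, 1311, 1), (2903, 1311, 4), (2904, 1302, 3), (3192, 1440, 2), (2748, 1223, 2), (2749, 1223, 3), (2750, 1223, 4), (2500, 1224, 2), (2753, 1224, 4), (2754, 1225, 3), (2499, 1118, 1), (2501, 1118, 4), (2502, 1119, 3), (2757, 1226, 2), (3283, 1478, 1), (3284, 1478, 3), (3285, 1478, 4), (3288, 1479, 2), (3289, 1479, 4), (3290, 1480, 3), (2940, 1315, 1), (2944, 1315, 4), (3299, 1483, 3), (3302, 1484, 2), (2939, 1314, 2), (2941, 1314, 4), (2945, 1316, 3), (2947, 1317, 2), (3308, 1487, 1), (5881, 2737, 2), (5882, 2737, 3), (5841, 2737, 4), (5389, 2738, 2), (5885, 2738, 4), (5842, 2711, 3), (5388, 2496, 1), (5371, 2496, 4), (5372, 2487, 3), (5843, 2712, 2), (5923, 3244, 1), (6876, 3244, 3), (5921, 3244, 4), (6879, 3245, 2), (6880, 3245, 4), (6779, 3190, 3), (6279, 2929, 1), (6282, 2929, 4), (6782, 3248, 3), (6781, 3191, 2), (6278, 2928, 2), (6245, 2928, 4), (6246, 2903,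 3), (6247, 2904, 2), (6783, 3192, 1), (5922, 2748, 3), (5926, 2749, 2), (5927, 2749, 4), (5928, 2750, 3), (5399, 2500, 1), (5403, 2500, 4), (5936, 2753, 3), (5939, 2754, 2), (5398, 2499, 2), (5400, 2499, 4), (5404, 2501, 3), (5406, 2502, 2), (5947, 2757, 1), (6977, 3283, 3), (6980, 3284, 2), (6981, 3284, 4), (6982, 3285, 3), (6993, 3288, 1), (6994, 3288, 4), (6995, 3289, 3), (6998, 3290, 2), (6314, 2940, 2), (6315, 2940, 4), (6325, 2944, 3), (7022, 3299, 2), (7029, 3302, 1), (6309, 2939, 1), (6310, 2939, 3), (6311, 2939, 4), (6316, 2941, 3), (3349, 2945, 2), (6331, 2947, 1), (7039, 3308, 2), (12170, 5881, 3), (12173, 5882, 2), (12174, 5882, 4), (12098, 5841, 3), (11266, 5389, 1), (11269, 5389, 4), (12102, 5885, 3), (12101, 5842, 2), (11265, 5388, 2), (11244, 5388, 4), (11245, 5371, 3), (11246, 5372, 2), (12103, 5843, 1), (12281, 5923, 3), (14123, 6876, 2), (14124, 6876, 4), (12276, 5921, 3), (14134, 6879, 1), (14135, 6879, 4), (13927, 6880, 3), (13926, 6779, 2), (12966, 6279, 2), (12967, 6279, 4), (12915,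 6282, 3), (13220, 6782, 2), (13929, 6781, 1), (11293, 6278, 1), (12963, 6278, 3), (6946, 6278, 4), (12912, 6245, 3), (6526, 6246, 2), (12916, 6247, 1), (13931, 6783, 2), (12279, 5922, 2), (12280, 5922, 4), (12292, 5926, 1), (12293, 5926, 4), (12294, 5927, 3), (12297, 5928, 2), (11296, 5399, 2), (11297, 5399, 4), (11306, 5403, 3), (12317, 5936, 2), (12324, 5939, 1), (11292, 5398, 3), (11298, 5400, 3), (11309, 5404, 2), (11312, 5406, 1), (12332, 5947, 2), (14355, 6977, 2), (14356, 6977, 4), (14367, 6980, 1), (14368, 6980, 4), (14369, 6981, 3), (14372, 6982, 2), (14406, 6993, 2), (14407, 6993, 4), (14408, 6994, 3), (14409, 6995, 2), (14417, 6998, 1), (13049, 6314, 1), (13036, 6314, 3), (13050, 6314, 4), (13051, 6315, 3), (3347, 6325, 2), (14470, 7022, 1), (14480, 7029, 2), (13033, 6309, 3), (13037, 6310, 4), (13038, 6311, 3), (13054, 6316, 2), (7113, 3349, 1), (13091, 6331, 2), (14498, 7039, 1), (14499, 7039, 3), (24551, 12170, 2), (24552, 12170, 4), (24559, 12173, 1), (24560, 12173, 4), (24409, 12174, 3),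 (24408, 12098, 2), (19302, 11266, 2), (22955, 11266, 4), (22931, 11269, 3), (24416, 12102, 2), (24415, 12101, 1), (22953, 11265, 3), (22927, 11244, 3), (22930, 11245, 2), (22932, 11246, 1), (24418, 12103, 2), (24801, 12281, 2), (24798, 12281, 4), (28317, 14123, 1), (28318, 14123, 4), (24788, 14124, 3), (24787, 12276, 2), (26223, 14134, 2), (26222, 14134, 4), (28339, 14135, 3), (27926, 13927, 2), (27925, 13926, 1), (26043, 12966, 1), (26035, 12966, 3), (26044, 12966, 4), (25963, 12967, 3), (6406, 12915, 2), (26497, 13220, 1), (27218, 13929, 2), (23007, 11293, 3), (26036, 12963, 4), (14274, 6946, 3), (25962, 12912, 2), (13445, 6526, 1), (24911, 12916, 2), (23051, 13931, 1), (27934, 13931, 3), (24796, 12279, 1), (24797, 12279, 4), (24832, 12292, 2), (24833, 12292, 4), (24834, 12293, 3), (24835, 12294, 2), (24842, 12297, 1), (23013, 11296, 1), (23005, 11296, 3), (19301, 11296, 4), (23014, 11297, 3), (23038, 11306, 2), (24875, 12317, 1), (24890, 12324, 2), (23006, 11292, 4), (23017, 11298, 2), (23045, 11309,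 1), (24912, 12332, 3), (28805, 14355, 1), (28806, 14355, 4), (28845, 14367, 2), (28846, 14367, 4), (28847, 14368, 3), (28848, 14369, 2), (28859, 14372, 1), (28929, 14406, 3), (28930, 14407, 3), (28933, 14408, 2), (28934, 14409, 1), (28954, 14417, 2), (26183, 13049, 3), (26184, 13036, 4), (26224, 13050, 3), (26225, 13051, 2), (7112, 3347, 1), (27219, 14470, 2), (29059, 14480, 1), (29060, 14480, 3), (22979, 13033, 2), (23525, 13033, 4), (26185, 13037, 3), (26188, 13038, 2), (26234, 13054, 1), (14637, 7113, 2), (26299, 13091, 3), (29095, 14498, 3), (29098, 14499, 4), (47002, 24551, 1), (47003, 24551, 4), (38017, 24559, 2), (42363, 24559, 4), (47019, 24560, 3), (46772, 24409, 2), (28867, 24408, 1), (38019, 19302, 1), (38020, 19302, 3), (18850, 19302, 4), (44681, 22955, 3), (24586, 22931, 2), (46780, 24416, 1), (46779, 24415, 2), (44722, 22953, 4), (44680, 22927, 2), (44683, 22930, 1), (46785, 24418, 3), (47489, 24801, 1), (47482, 24801, 4), (53393, 28317, 2), (53394, 28317, 4), (53395, 28318, 3), (47461, 24788,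 2), (47460, 24787, 1), (49736, 26223, 3), (49735, 26222, 3), (52740, 28339, 2), (52739, 27926, 1), (50038, 27925, 2), (46066, 26043, 3), (49404, 26035, 4), (49420, 26044, 3), (49289, 25963, 2), (13219, 6406, 1), (27115, 26497, 2), (50037, 27218, 1), (51493, 27218, 3), (13980, 23007, 2), (24094, 23007, 4), (28615, 26036, 3), (28614, 14274, 2), (49288, 25962, 1), (26907, 13445, 2), (47668, 24911, 3), (44856, 23051, 3), (52753, 27934, 4), (47479, 24796, 2), (47480, 24796, 4), (47481, 24797, 3), (38000, 24832, 3), (47537, 24833, 3), (47540, 24834, 2), (28866, 24835, 1), (47552, 24842, 2), (44797, 23013, 3), (37998, 23005, 4), (18860, 19301, 3), (44807, 23014, 2), (44834, 23038, 1), (47599, 24875, 2), (47622, 24890, 1), (47623, 24890, 3), (44813, 23017, 1), (44846, 23045, 2), (47671, 24912, 4), (54330, 28805, 2), (54331, 28805, 4), (54332, 28806, 3), (54419, 28845, 1), (54420, 28845, 3), (54421, 28845, 4), (54422, 28846, 3), (54423, 28847, 2), (54424, 28848, 1), (54446, 28859, 2), (54575, 28929, 4), (53852,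 28930, 2), (54586, 28933, 1), (54632, 28954, 3), (29237, 26183, 2), (49656, 26183, 4), (49657, 26184, 3), (49739, 26224, 2), (49740, 26225, 1), (14636, 7112, 2), (51494, 27219, 3), (54837, 29059, 3), (54840, 29060, 4), (44755, 22979, 1), (13979, 22979, 4), (49658, 26185, 2), (49666, 26188, 1), (49759, 26234, 2), (29379, 14637, 1), (29380, 14637, 3), (49860, 26299, 4), (41141, 29095, 2), (54900, 29095, 4), (32565, 47002, 2), (80886, 47002, 4), (80887, 47003, 3), (37154, 38017, 3), (75699, 42363, 3), (80646, 47019, 2), (53407, 46772, 1), (54454, 28867, 2), (69216, 38019, 3), (37158, 38020, 4), (19293, 18850, 3), (69188, 44681, 2), (47058, 24586, 1), (80655, 46780, 2), (51135, 46779, 1), (51134, 46779, 3), (78483, 44680, 1), (74140, 44683, 2), (80664, 46785, 4), (53920, 47489, 2), (81414, 47489, 4), (81413, 47482, 3), (89235, 53393, 1), (84274, 53393, 3), (89236, 53393, 4), (84273, 53394, 3), (81393, 53395, 2), (81392, 47461, 1), (81391, 47460, 2), (84157, 49736, 4), (55149, 49735, 2), (88417, 52740, 1), (84727,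 50038, 3), (28564, 46066, 2), (51941, 46066, 4), (83846, 49404, 3), (83697, 49420, 2), (55413, 49289, 1), (26496, 13219, 2), (51299, 27115, 3), (73363, 50037, 3), (86783, 51493, 4), (28002, 13980, 1), (22980, 13980, 4), (53940, 28615, 2), (53939, 28614, 1), (29376, 49288, 2), (50923, 26907, 1), (50924, 26907, 3), (81656, 47668, 4), (62643, 44856, 2), (74138, 44856, 4), (81410, 47479, 1), (69186, 47479, 3), (81411, 47479, 4), (81412, 47480, 3), (37157, 38000, 4), (81465, 47537, 2), (54452, 47540, 1), (51101, 47552, 3), (78613, 44797, 2), (69181, 44797, 4), (19292, 37998, 3), (37155, 18860, 2), (78619, 44807, 1), (78640, 44834, 2), (81537, 47599, 3), (26127, 47622, 3), (51137, 47623, 4), (78621, 44813, 2), (78654, 44846, 1), (53881, 54330, 3), (90500, 54331, 3), (90600, 54419, 3), (68119, 54420, 4), (41171, 54421, 3), (85264, 54422, 2), (90601, 54423, 1), (90635, 54446, 3), (48847, 53852, 1), (90802, 54586, 2), (90871, 54632, 4), (27341, 29237, 1), (28565, 29237, 4), (84158, 49657, 2), (84281, 49739, 1),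 (29377, 14636, 3), (47590, 51494, 4), (91176, 54837, 2), (91177, 54837, 4), (27342, 44755, 2), (27999, 44755, 4), (28000, 13979, 3), (84159, 49658, 1), (84174, 49666, 2), (84323, 49759, 3), (55414, 29379, 3), (55416, 29380, 4), (72525, 41141, 1), (62644, 41141, 4), (60963, 32565, 1), (60964, 32565, 3), (55754, 32565, 4), (109423, 80886, 3), (37996, 37154, 4), (100768, 75699, 2), (71175, 80646, 1), (85908, 54454, 3), (84736, 69216, 2), (67936, 69216, 4), (18861, 37158, 3), (38001, 19293, 2), (80917, 69188, 1), (80926, 47058, 2), (86235, 80655, 3), (27028, 51135, 3), (49556, 51134, 4), (101743, 78483, 2), (101106, 74140, 1), (28606, 53920, 3), (71176, 81414, 3), (89956, 89235, 3), (54551, 84274, 4), (74189, 89236, 3), (83112, 84273, 2), (112343, 81393, 1), (112342, 81391, 3), (51698, 55149, 1), (113549, 88417, 2), (81520, 84727, 4), (25709, 28564, 1), (29245, 28564, 4), (89969, 83846, 2), (91798, 83697, 1), (50206, 26496, 3), (81531, 51299, 4), (107283, 73363, 2), (72768, 73363, 4), (25708, 28002, 2), (44757,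 28002, 4), (37997, 22980, 3), (89968, 53940, 1), (89967, 53939, 2), (55405, 29376, 3), (85993, 50923, 3), (60929, 50924, 4), (99408, 62643, 1), (41140, 62643, 4), (104759, 81410, 3), (67935, 69186, 4), (55406, 81411, 3), (111256, 81412, 2), (112363, 81465, 1), (85466, 54452, 2), (49558, 51101, 4), (111102, 78613, 1), (84735, 78613, 4), (67932, 37155, 1), (91262, 78640, 3), (86237, 81537, 4), (49560, 26127, 2), (27029, 26127, 4), (83070, 78621, 3), (28607, 53881, 4), (113846, 90500, 2), (86329, 90600, 2), (72178, 90600, 4), (72604, 68119, 3), (53905, 41171, 2), (53716, 85264, 1), (114888, 90601, 2), (69915, 90635, 4), (83071, 48847, 2), (83113, 90802, 1), (53853, 28565, 3), (113888, 84158, 1), (113842, 84281, 2), (55408, 29377, 4), (107461, 91176, 1), (107282, 91176, 4), (51699, 27342, 3), (52820, 27999, 3), (98086, 84174, 3), (58957, 84323, 4), (85468, 55414, 2), (70075, 55414, 4), (96696, 72525, 2), (99389, 72525, 4), (90785, 62644, 3), (98036, 60963, 3), (69180, 60964, 4), (84970, 55754, 3), (98467, 109423,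 2), (109403, 100768, 1), (84060, 71175, 2), (51102, 85908, 4), (99936, 84736, 1), (84489, 84736, 4), (69187, 38001, 1), (74188, 80926, 3), (84055, 86235, 4), (50531, 27028, 2), (26126, 27028, 4), (87051, 101743, 3), (40140, 28606, 4), (106240, 71176, 2), (114712, 89956, 2), (53923, 89956, 4), (53922, 54551, 3), (89511, 74189, 2), (48880, 83112, 1), (113218, 112343, 2), (91793, 112342, 4), (87050, 51698, 2), (89677, 113549, 1), (55161, 29245, 3), (116824, 89969, 1), (101376, 91798, 2), (84972, 50206, 4), (113243, 107283, 1), (105040, 107283, 4), (48846, 25708, 3), (69182, 44757, 3), (64668, 89967, 3), (38621, 55405, 4), (84056, 85993, 2), (95905, 85993, 4), (119229, 99408, 2), (72575, 99408, 4), (74139, 41140, 3), (101373, 104759, 2), (70365, 104759, 4), (84971, 67935, 3), (78939, 55406, 2), (105338, 111256, 1), (101328, 112363, 2), (101329, 85466, 1), (80030, 84735, 3), (103892, 67932, 2), (84059, 49560, 1), (50532, 49560, 4), (91711, 83070, 4), (101377, 86329, 1), (84057, 86329, 4), (48934, 53905, 1),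 (88493, 83071, 3), (101372, 107282, 3), (64669, 98086, 4), (116138, 98036, 2), (104386, 98036, 4), (55407, 69180, 3), (76037, 84970, 2), (101202, 98467, 1), (119551, 109403, 2), (113844, 84060, 1), (81462, 84489, 3), (101766, 69187, 2), (85465, 50531, 1), (49557, 50531, 4), (83196, 87051, 4), (120428, 114712, 1), (85469, 114712, 4), (55341, 89511, 1), (101471, 87050, 3), (105576, 105040, 3), (70074, 64668, 4)]

theorem wOK3 : wordsOK [12, 0] W3 = true := by decide +kernel

theorem finG : Finite G := by
  apply Nat.finite_of_card_ne_zero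
  intro h
  have := card_G_dvd
  rw [h] at this
  norm_num at this

theorem lev1 : 122760 * Nat.card ↥(Kof [0]) ≤ Nat.card G := by
  haveI := finG
  have h := step (⊤ : Subgroup G) 0 (Finset.range N) (by
    intro p hp
    rw [Finset.mem_range] at hp
    obtain ⟨g, hg⟩ : ∃ g : G, nd p = g • n0 := by
      induction (nd p) using QuotientGroup.induction_on with
      | H g => exact ⟨g, by simp [n0, MulAction.Quotient.smul_mk]⟩
    refine ⟨g, Subgroup.mem_top g, ?_⟩
    have h1 := hpsi p hp
    rw [hg] at h1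
    unfold psiQ at h1
    rw [TCG.psi_smul] at h1
    have h0 := psi_n0
    unfold psiQ at h0
    rw [h0] at h1
    exact h1)
  rw [Finset.card_range, Subgroup.card_top] at h
  exact h

theorem Kof0 : Kof [0] = Hs := by
  ext g
  rw [mem_Kof]
  simp only [List.mem_singleton, forall_eq]
  constructor
  · intro h
    have h1 : psiQ (g • n0) = psiQ n0 := by
      unfold psiQ
      rw [TCG.psi_smul]
      have h0 := psi_n0
      unfold psiQ at h0
      rw [h0, h]
    have h2 := psi_inj h1
    unfold n0 at h2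
    rw [MulAction.Quotient.smul_mk, QuotientGroup.eq] at h2
    simpa using Hs.inv_mem h2
  · intro h
    exact hH g h

theorem lev2 : 5586 * Nat.card ↥(Kof [12, 0]) ≤ Nat.card ↥(Kof [0]) := by
  haveI := finG
  have h := step (Kof [0]) 12 ((Finset.range N).filter (fun i => oid i = 3)) (by
    intro p hp
    rw [Finset.mem_filter, Finset.mem_range] at hp
    obtain ⟨h, hh, e⟩ := orb_reach 3 (odep p) p hp.1 rfl hp.2
    exact ⟨h, Kof0 ▸ hh, e⟩)
  have hc : ((Finset.range N).filter (fun i => oid i = 3)).card = 5586 := by decide +kernel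
  rw [hc] at h
  exact h

theorem lev3 : 672 * Nat.card ↥(Kof [139, 12, 0]) ≤ Nat.card ↥(Kof [12, 0]) := by
  haveI := finG
  exact level wOK3 139 T3 (by decide +kernel) 672 (by decide +kernel)

theorem card_lower : 460815505920 * Nat.card ↥(Kof [139, 12, 0]) ≤ Nat.card G := by
  have h1 := lev1
  have h2 := lev2
  have h3 := lev3
  have key : ∀ a b c : ℕ, a * b ≤ c → ∀ m, m * a * b ≤ m * c := by
    intro a b c h m; rw [mul_assoc]; exact Nat.mul_le_mul_left m h
  have g1 : 122760 * Nat.card ↥(Kof [0]) ≤ Nat.card G := h1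
  have g2 : 685737360 * Nat.card ↥(Kof [12, 0]) ≤ Nat.card G := by
    have := Nat.mul_le_mul_left 122760 h2
    rw [← mul_assoc] at this
    exact (show 685737360 * Nat.card ↥(Kof [12, 0]) = 122760 * 5586 * Nat.card ↥(Kof [12, 0]) by norm_num).le.trans (this.trans g1)
  have g3 : 460815505920 * Nat.card ↥(Kof [139, 12, 0]) ≤ Nat.card G := by
    have := Nat.mul_le_mul_left 685737360 h3
    rw [← mul_assoc] at this
    exact (show 460815505920 * Nat.card ↥(Kof [139, 12, 0]) = 685737360 * 672 * Nat.card ↥(Kof [139, 12, 0]) by norm_num).le.trans (this.trans g2)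
  exact g3

theorem card_G : Nat.card G = 460815505920 := by
  haveI := finG
  have h1 := card_lower
  have hpos : 0 < Nat.card ↥(Kof [139, 12, 0]) := Nat.card_pos
  have h2 := Nat.le_of_dvd (by norm_num) card_G_dvd
  nlinarith

theorem card_Kbase : Nat.card ↥(Kof [139, 12, 0]) = 1 := by
  haveI := finG
  have h1 := card_lower
  have hpos : 0 < Nat.card ↥(Kof [139, 12, 0]) := Nat.card_pos
  rw [card_G] at h1
  nlinarith

/-- an element fixing the base points is trivial. -/
theorem eq_one_of_fix {g : G} (h : ∀ b ∈ [139, 12, 0], phi g b = b) : g = 1 := by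
  have hm : g ∈ Kof [139, 12, 0] := mem_Kof.mpr h
  have hb : Kof [139, 12, 0] = ⊥ := Subgroup.card_eq_one.mp card_Kbase
  rw [hb] at hm
  exact Subgroup.mem_bot.mp hm

theorem phi_injective : Function.Injective phi := by
  rw [injective_iff_map_eq_one]
  intro g hg
  apply eq_one_of_fix
  intro b _
  rw [hg, Equiv.Perm.one_apply]

/-- word identity test via the base. -/
def chkBase (w : List ℕ) : Bool :=
  (w.all fun l => decide (l < nl)) && [139, 12, 0].all fun b => evalw w b == b

theorem prodw_eq_one {w : List ℕ} (h : chkBase w = true) : prodw w = 1 := by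
  simp only [chkBase, Bool.and_eq_true, List.all_eq_true, decide_eq_true_eq, beq_iff_eq] at h
  apply eq_one_of_fix
  intro b hb
  rw [phi_prodw_apply _ h.1]
  exact h.2 b hb

end Cfsg.Agent.Helper17.ONOrd
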