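import Mathlib
import Cfsg.Agent.Helper17.ONOrd.Simple
import Cfsg.Agent.Helper17.PermFin
import Cfsg.Agent.Helper17.SmallSpor.Defs

/-! Tools for homomorphisms from Coxeter-type presented groups into the presented O'Nan group:
images of generators given by words, relators checked through the faithful permutation
representation on 122760 points (one kernel evaluation per relator and base point). -/

set_option autoImplicit false
set_option linter.all false
set_option maxRecDepth 100000

noncomputable section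

namespace Cfsg.Agent.Helper17.ONSubgroups

open Cfsg.Spor Cfsg.Agent.Helper17.SmallSpor

/-- `pw jw [i₁, …, iₙ] = prodw (jw i₁) * … * prodw (jw iₙ)`. -/
def pw (jw : ℕ → List ℕ) : List ℕ → ONTC.G
  | [] => 1
  | i :: l => ONTC.prodw (jw i) * pw jw l

/-- the word of `pw jw l`. -/
def cat (jw : ℕ → List ℕ) (l : List ℕ) : List ℕ := ((l.map jw).reverse).flatten

theorem cat_cons (jw : ℕ → List ℕ) (i : ℕ) (l : List ℕ) : cat jw (i :: l) = cat jw l ++ jw i := by
  simp [cat]

theorem pw_eq (jw : ℕ → List ℕ) (l : List ℕ) : pw jw l = ONTC.prodw (cat jw l) := by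
  induction l with
  | nil => simp [pw, cat, ONTC.prodw]
  | cons i l ih => rw [pw, ih, cat_cons, ONOrd.prodw_append]

/-- the relator word `(pw jw l) ^ m`. -/
def relw (jw : ℕ → List ℕ) (l : List ℕ) (m : ℕ) : List ℕ := (List.replicate m (cat jw l)).flatten

theorem pw_pow_eq_one (jw : ℕ → List ℕ) (l : List ℕ) (m : ℕ)
    (h : ONOrd.chkBase (relw jw l m) = true) : pw jw l ^ m = 1 := by
  rw [pw_eq, ← ONOrd.prodw_replicate]
  exact ONOrd.prodw_eq_one h

theorem pair_pow (jw : ℕ → List ℕ) (i j m : ℕ)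
    (h : ONOrd.chkBase (relw jw [i, j] m) = true) :
    (ONTC.prodw (jw i) * ONTC.prodw (jw j)) ^ m = 1 := by
  have := pw_pow_eq_one jw [i, j] m h
  simpa [pw] using this

theorem pow_swap {Γ : Type*} [Group Γ] {u v : Γ} {m : ℕ} (h : (u * v) ^ m = 1) :
    (v * u) ^ m = 1 := by
  have h1 : v * u = u⁻¹ * (u * v) * u⁻¹⁻¹ := by group
  rw [h1, conj_pow, h]
  group

theorem chk_of {w : List ℕ} (h0 : (w.all fun l => decide (l < ONTC.nl)) = true)
    (h1 : ONTC.evalw w 139 = 139) (h2 : ONTC.evalw w 12 = 12) (h3 : ONTC.evalw w 0 = 0) :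
    ONOrd.chkBase w = true := by
  simp only [ONOrd.chkBase, Bool.and_eq_true, List.all_cons, List.all_nil, beq_iff_eq,
    Bool.and_true]
  exact ⟨h0, h1, h2, h3⟩

theorem prodw_ne_one (w : List ℕ) (hw : ∀ l ∈ w, l < ONTC.nl) (p : ℕ)
    (hp : ONTC.evalw w p ≠ p) : ONTC.prodw w ≠ 1 := by
  intro h
  apply hp
  rw [← ONOrd.phi_prodw_apply w hw, h, map_one, Equiv.Perm.one_apply]

end Cfsg.Agent.Helper17.ONSubgroups
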