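import Mathlib
import Cfsg.Agent.Helper17.ONOrd.SubCommon

/-! words in the O'Nan generators for the images of the generators of `J1P`. -/

set_option autoImplicit false
set_option linter.all false
set_option maxRecDepth 100000

noncomputable section

namespace Cfsg.Agent.Helper17.ONSubgroups

open Cfsg.Spor Cfsg.Agent.Helper17.SmallSpor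

def jwJ : ℕ → List ℕ
  | 0 => [2, 6, 7, 3, 2, 4, 1, 5, 3, 4, 3, 6, 4, 1, 7, 3, 4, 2, 7, 5, 4, 1, 5, 4, 3, 5, 0, 4, 5, 7, 2, 4, 3, 7, 0, 4, 6, 3, 4, 3, 5, 0, 4, 2, 3, 7, 6, 2, 6, 7, 3, 2, 4, 1, 5, 3, 4, 3, 6, 4, 1, 7, 3, 4, 2, 7, 5, 4, 1, 5, 3, 4, 5, 0, 4, 5, 7, 2, 4, 3, 7, 0, 4, 6, 3, 4, 3, 5, 0, 4, 2, 3, 7, 6, 2, 6, 7, 3, 2, 4, 1, 5, 3, 4, 3, 6, 4, 1, 7, 3, 4, 2, 7, 5, 4, 1, 5, 4, 3, 5, 0, 4, 5, 7, 2, 4, 3, 7, 0, 4, 6, 3, 4, 3, 5, 0, 4, 2, 3, 7, 6, 2, 6, 7, 3, 2, 4, 1, 5, 3, 4, 3, 6, 4, 1, 7, 3, 4, 2, 7, 5, 4, 1, 5, 3, 4, 5, 0, 4, 5, 7, 2, 4, 3, 7, 0, 4, 6, 3, 4, 3, 5, 0, 4, 2, 3, 7, 6, 2, 6, 7, 3, 2,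 4, 1, 5, 3, 4, 3, 6, 4, 1, 7, 3, 4, 2, 7, 5, 4, 1, 5, 4, 3, 5, 0, 4, 5, 7, 2, 4, 3, 7, 0, 4, 6, 3, 4, 3, 5, 0, 4, 2, 3, 7, 6, 2, 6, 7, 3, 2, 4, 1, 5, 3, 4, 3, 6, 4, 1, 7, 3, 4, 2, 7, 5, 4, 1, 5, 3, 4, 5, 0, 4, 5, 7, 2, 4, 3, 7, 0, 4, 6, 3, 4, 3, 5, 0, 4, 2, 3, 7, 6, 2, 6, 7, 3, 2, 4, 1, 5, 3, 4, 3, 6, 4, 1, 7, 3, 4, 2, 7, 5, 4, 1, 5, 4, 3, 5, 0, 4, 5, 7, 2, 4, 3, 7, 0, 4, 6, 3, 4, 3, 5, 0, 4, 2, 3, 7, 6, 2, 6, 7, 3, 2, 4, 1, 5, 3, 4, 3, 6, 4, 1, 7, 3, 4, 2, 7, 5, 4, 1, 5, 3, 4, 5, 0, 4, 5, 7, 2, 4, 3, 7, 0, 4, 6, 3, 4, 3, 5, 0, 4, 2, 3, 7, 6, 2, 6, 7, 3, 2, 4, 1, 5, 3, 4, 3, 6, 4, 1, 7, 3, 4, 2, 7, 5, 4,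 1, 5, 4, 3, 5, 0, 4, 5, 7, 2, 4, 3, 7, 0, 4, 6, 3, 4, 3, 5, 0, 4, 2, 3, 7, 6, 2, 6, 7, 3, 2, 4, 1, 5, 3, 4, 3, 6, 4, 1, 7, 3, 4, 2, 7, 5, 4, 1, 5, 3, 4, 5, 0, 4, 5, 7, 2, 4, 3, 7, 0, 4, 6, 3, 4, 3, 5, 0, 4, 2, 3, 7, 6, 2, 6, 7, 3, 2, 4, 1, 5, 3, 4, 3, 6, 4, 1, 7, 3, 4, 2, 7, 5, 4, 1, 5, 4, 3, 5, 0, 4, 5, 7, 2, 4, 3, 7, 0, 4, 6, 3, 4, 3, 5, 0, 4, 2, 3, 7, 6, 2, 6, 7, 3, 2, 4, 1, 5, 3, 4, 3, 6, 4, 1, 7, 3, 4, 2, 7, 5, 4, 1, 5, 3, 4, 5, 0, 4, 5, 7, 2, 4, 3, 7, 0, 4, 6, 3, 4, 3, 5, 0, 4, 2, 3, 7, 6, 2]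
  | 1 => [2, 6, 7, 3, 2, 4, 1, 5, 3, 4, 3, 6, 4, 1, 7, 3, 4, 2, 7, 5, 4, 1, 5, 3, 4, 5, 0, 4, 5, 7, 2, 4, 3, 7, 0, 4, 6, 3, 4, 3, 5, 0, 4, 2, 3, 7, 6, 2, 6, 7, 3, 2, 4, 1, 5, 3, 4, 3, 6, 4, 1, 7, 3, 4, 2, 7, 5, 4, 1, 5, 4, 3, 5, 0, 4, 5, 7, 2, 4, 3, 7, 0, 4, 6, 3, 4, 3, 5, 0, 4, 2, 3, 7, 6, 2, 6, 7, 3, 2, 4, 1, 5, 3, 4, 3, 6, 4, 1, 7, 3, 4, 2, 7, 5, 4, 1, 5, 3, 4, 5, 0, 4, 5, 7, 2, 4, 3, 7, 0, 4, 6, 3, 4, 3, 5, 0, 4, 2, 3, 7, 6, 2, 6, 7, 3, 2, 4, 1, 5, 3, 4, 3, 6, 4, 1, 7, 3, 4, 2, 7, 5, 4, 1, 5, 4, 3, 5, 0, 4, 5, 7, 2, 4, 3, 7, 0, 4, 6, 3, 4, 3, 5, 0, 4, 2, 3, 7, 6, 2, 6, 7, 3, 2, 4, 1, 5, 3, 4, 3, 6, 4,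 1, 7, 3, 4, 2, 7, 5, 4, 1, 5, 4, 3, 5, 0, 4, 5, 7, 2, 4, 3, 7, 0, 4, 6, 3, 4, 3, 5, 0, 4, 2, 3, 7, 6, 2, 6, 7, 3, 2, 4, 1, 5, 3, 4, 3, 6, 4, 1, 7, 3, 4, 2, 7, 5, 4, 1, 5, 3, 4, 5, 0, 4, 5, 7, 2, 4, 3, 7, 0, 4, 6, 3, 4, 3, 5, 0, 4, 2, 3, 7, 6, 2, 6, 7, 3, 2, 4, 1, 5, 3, 4, 3, 6, 4, 1, 7, 3, 4, 2, 7, 5, 4, 1, 5, 3, 4, 5, 0, 4, 5, 7, 2, 4, 3, 7, 0, 4, 6, 3, 4, 3, 5, 0, 4, 2, 3, 7, 6, 2, 6, 7, 3, 2, 4, 1, 5, 3, 4, 3, 6, 4, 1, 7, 3, 4, 2, 7, 5, 4, 1, 5, 4, 3, 5, 0, 4, 5, 7, 2, 4, 3, 7, 0, 4, 6, 3, 4, 3, 5, 0, 4, 2, 3, 7, 6, 2, 6, 7, 3, 2, 4, 1, 5, 3, 4, 3, 6, 4, 1, 7, 3, 4, 2, 7, 5, 4, 1, 5, 4, 3, 5, 0, 4, 5,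 7, 2, 4, 3, 7, 0, 4, 6, 3, 4, 3, 5, 0, 4, 2, 3, 7, 6, 2, 6, 7, 3, 2, 4, 1, 5, 3, 4, 3, 6, 4, 1, 7, 3, 4, 2, 7, 5, 4, 1, 5, 3, 4, 5, 0, 4, 5, 7, 2, 4, 3, 7, 0, 4, 6, 3, 4, 3, 5, 0, 4, 2, 3, 7, 6, 2, 6, 7, 3, 2, 4, 1, 5, 3, 4, 3, 6, 4, 1, 7, 3, 4, 2, 7, 5, 4, 1, 5, 3, 4, 5, 0, 4, 5, 7, 2, 4, 3, 7, 0, 4, 6, 3, 4, 3, 5, 0, 4, 2, 3, 7, 6, 2, 6, 7, 3, 2, 4, 1, 5, 3, 4, 3, 6, 4, 1, 7, 3, 4, 2, 7, 5, 4, 1, 5, 4, 3, 5, 0, 4, 5, 7, 2, 4, 3, 7, 0, 4, 6, 3, 4, 3, 5, 0, 4, 2, 3, 7, 6, 2, 6, 7, 3, 2, 4, 1, 5, 3, 4, 3, 6, 4, 1, 7, 3, 4, 2, 7, 5, 4, 1, 5, 3, 4, 5, 0, 4, 5, 7, 2, 4, 3, 7, 0, 4, 6, 3, 4, 3, 5, 0, 4, 2, 3,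 7, 6, 2, 6, 7, 3, 2, 4, 1, 5, 3, 4, 3, 6, 4, 1, 7, 3, 4, 2, 7, 5, 4, 1, 5, 4, 3, 5, 0, 4, 5, 7, 2, 4, 3, 7, 0, 4, 6, 3, 4, 3, 5, 0, 4, 2, 3, 7, 6, 2]
  | 2 => [6, 7, 3, 2, 4, 1, 5, 3, 4, 3, 6, 4, 1, 7, 3, 4, 2, 7, 5, 4, 1, 5, 3, 4, 5, 0, 4, 5, 7, 2, 4, 3, 7, 0, 4, 6, 3, 4, 3, 5, 0, 4, 2, 3, 7, 6, 2, 6, 7, 3, 2, 4, 1, 5, 3, 4, 3, 6, 4, 1, 7, 3, 4, 2, 7, 5, 4, 1, 5, 3, 4, 5, 0, 4, 5, 7, 2, 4, 3, 7, 0, 4, 6, 3, 4, 3, 5, 0, 4, 2, 3, 7, 6, 2, 6, 7, 3, 2, 4, 1, 5, 3, 4, 3, 6, 4, 1, 7, 3, 4, 2, 7, 5, 4, 1, 5, 4, 3, 5, 0, 4, 5, 7, 2, 4, 3, 7, 0, 4, 6, 3, 4, 3, 5, 0, 4, 2, 3, 7, 6, 2, 6, 7, 3, 2, 4, 1, 5, 3, 4, 3,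 6, 4, 1, 7, 3, 4, 2, 7, 5, 4, 1, 5, 3, 4, 5, 0, 4, 5, 7, 2, 4, 3, 7, 0, 4, 6, 3, 4, 3, 5, 0, 4, 2, 3, 7, 6, 2, 6, 7, 3, 2, 4, 1, 5, 3, 4, 3, 6, 4, 1, 7, 3, 4, 2, 7, 5, 4, 1, 5, 4, 3, 5, 0, 4, 5, 7, 2, 4, 3, 7, 0, 4, 6, 3, 4, 3, 5, 0, 4, 2, 3, 7, 6, 2, 6, 7, 3, 2, 4, 1, 5, 3, 4, 3, 6, 4, 1, 7, 3, 4, 2, 7, 5, 4, 1, 5, 3, 4, 5, 0, 4, 5, 7, 2, 4, 3, 7, 0, 4, 6, 3, 4, 3, 5, 0, 4, 2, 3, 7, 6, 2, 6, 7, 3, 2, 4, 1, 5, 3, 4, 3, 6, 4, 1, 7, 3, 4, 2, 7, 5, 4, 1, 5, 4, 3, 5, 0, 4, 5, 7, 2, 4, 3, 7, 0, 4, 6, 3, 4, 3, 5, 0, 4, 2, 3, 7, 6, 2, 6, 7, 3, 2, 4, 1, 5, 3, 4, 3, 6, 4, 1, 7, 3, 4, 2, 7, 5, 4, 1, 5, 3, 4, 5, 0,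 4, 5, 7, 2, 4, 3, 7, 0, 4, 6, 3, 4, 3, 5, 0, 4, 2, 3, 7, 6, 2, 6, 7, 3, 2, 4, 1, 5, 3, 4, 3, 6, 4, 1, 7, 3, 4, 2, 7, 5, 4, 1, 5, 4, 3, 5, 0, 4, 5, 7, 2, 4, 3, 7, 0, 4, 6, 3, 4, 3, 5, 0, 4, 2, 3, 7, 6, 2, 6, 7, 3, 2, 4, 1, 5, 3, 4, 3, 6, 4, 1, 7, 3, 4, 2, 7, 5, 4, 1, 5, 3, 4, 5, 0, 4, 5, 7, 2, 4, 3, 7, 0, 4, 6, 3, 4, 3, 5, 0, 4, 2, 3, 7, 6, 2, 6, 7, 3, 2, 4, 1, 5, 3, 4, 3, 6, 4, 1, 7, 3, 4, 2, 7, 5, 4, 1, 5, 4, 3, 5, 0, 4, 5, 7, 2, 4, 3, 7, 0, 4, 6, 3, 4, 3, 5, 0, 4, 2, 3, 7, 6, 2, 6, 7, 3, 2, 4, 1, 5, 3, 4, 3, 6, 4, 1, 7, 3, 4, 2, 7, 5, 4, 1, 5, 3, 4, 5, 0, 4, 5, 7, 2, 4, 3, 7, 0, 4, 6, 3, 4, 3, 5, 0, 4,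 2, 3, 7, 6, 2, 6, 7, 3, 2, 4, 1, 5, 3, 4, 3, 6, 4, 1, 7, 3, 4, 2, 7, 5, 4, 1, 5, 4, 3, 5, 0, 4, 5, 7, 2, 4, 3, 7, 0, 4, 6, 3, 4, 3, 5, 0, 4, 2, 3, 7, 6, 2, 6, 7, 3, 2, 4, 1, 5, 3, 4, 3, 6, 4, 1, 7, 3, 4, 2, 7, 5, 4, 1, 5, 3, 4, 5, 0, 4, 5, 7, 2, 4, 3, 7, 0, 4, 6, 3, 4, 3, 5, 0, 4, 2, 3, 7, 6, 2, 6, 7, 3, 2, 4, 1, 5, 3, 4, 3, 6, 4, 1, 7, 3, 4, 2, 7, 5, 4, 1, 5, 4, 3, 5, 0, 4, 5, 7, 2, 4, 3, 7, 0, 4, 6, 3, 4, 3, 5, 0, 4, 2, 3, 7, 6, 2, 6, 7, 3, 2, 4, 1, 5, 3, 4, 3, 6, 4, 1, 7, 3, 4, 2, 7, 5, 4, 1, 5, 4, 3, 5, 0, 4, 5, 7, 2, 4, 3, 7, 0, 4, 6, 3, 4, 3, 5, 0, 4, 2, 3, 7, 6]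
  | 3 => [2, 6, 7, 3, 2, 4, 1, 5, 3, 4, 3, 6, 4, 1, 7, 3, 4, 2, 7, 5, 4, 1, 5, 4, 3, 5, 0, 4, 5, 7, 2, 4, 3, 7, 0, 4, 6, 3, 4, 3, 5, 0, 4, 2, 3, 7, 6, 2, 6, 7, 3, 2, 4, 1, 5, 3, 4, 3, 6, 4, 1, 7, 3, 4, 2, 7, 5, 4, 1, 5, 4, 3, 5, 0, 4, 5, 7, 2, 4, 3, 7, 0, 4, 6, 3, 4, 3, 5, 0, 4, 2, 3, 7, 6, 2, 6, 7, 3, 2, 4, 1, 5, 3, 4, 3, 6, 4, 1, 7, 3, 4, 2, 7, 5, 4, 1, 5, 3, 4, 5, 0, 4, 5, 7, 2, 4, 3, 7, 0, 4, 6, 3, 4, 3, 5, 0, 4, 2, 3, 7, 6, 2, 6, 7, 3, 2, 4, 1, 5, 3, 4, 3, 6, 4, 1, 7, 3, 4, 2, 7, 5, 4, 1, 5, 4, 3, 5, 0, 4, 5, 7, 2, 4, 3, 7, 0, 4, 6, 3, 4, 3, 5, 0, 4, 2, 3, 7, 6, 2, 6, 7, 3, 2, 4, 1, 5, 3, 4, 3, 6, 4,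 1, 7, 3, 4, 2, 7, 5, 4, 1, 5, 4, 3, 5, 0, 4, 5, 7, 2, 4, 3, 7, 0, 4, 6, 3, 4, 3, 5, 0, 4, 2, 3, 7, 6, 2, 6, 7, 3, 2, 4, 1, 5, 3, 4, 3, 6, 4, 1, 7, 3, 4, 2, 7, 5, 4, 1, 5, 3, 4, 5, 0, 4, 5, 7, 2, 4, 3, 7, 0, 4, 6, 3, 4, 3, 5, 0, 4, 2, 3, 7, 6, 2, 6, 7, 3, 2, 4, 1, 5, 3, 4, 3, 6, 4, 1, 7, 3, 4, 2, 7, 5, 4, 1, 5, 4, 3, 5, 0, 4, 5, 7, 2, 4, 3, 7, 0, 4, 6, 3, 4, 3, 5, 0, 4, 2, 3, 7, 6, 2, 6, 7, 3, 2, 4, 1, 5, 3, 4, 3, 6, 4, 1, 7, 3, 4, 2, 7, 5, 4, 1, 5, 3, 4, 5, 0, 4, 5, 7, 2, 4, 3, 7, 0, 4, 6, 3, 4, 3, 5, 0, 4, 2, 3, 7, 6, 2, 6, 7, 3, 2, 4, 1, 5, 3, 4, 3, 6, 4, 1, 7, 3, 4, 2, 7, 5, 4, 1, 5, 4, 3, 5, 0, 4, 5,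 7, 2, 4, 3, 7, 0, 4, 6, 3, 4, 3, 5, 0, 4, 2, 3, 7, 6, 2, 6, 7, 3, 2, 4, 1, 5, 3, 4, 3, 6, 4, 1, 7, 3, 4, 2, 7, 5, 4, 1, 5, 4, 3, 5, 0, 4, 5, 7, 2, 4, 3, 7, 0, 4, 6, 3, 4, 3, 5, 0, 4, 2, 3, 7, 6, 2, 6, 7, 3, 2, 4, 1, 5, 3, 4, 3, 6, 4, 1, 7, 3, 4, 2, 7, 5, 4, 1, 5, 3, 4, 5, 0, 4, 5, 7, 2, 4, 3, 7, 0, 4, 6, 3, 4, 3, 5, 0, 4, 2, 3, 7, 6, 2, 6, 7, 3, 2, 4, 1, 5, 3, 4, 3, 6, 4, 1, 7, 3, 4, 2, 7, 5, 4, 1, 5, 3, 4, 5, 0, 4, 5, 7, 2, 4, 3, 7, 0, 4, 6, 3, 4, 3, 5, 0, 4, 2, 3, 7, 6, 2, 6, 7, 3, 2, 4, 1, 5, 3, 4, 3, 6, 4, 1, 7, 3, 4, 2, 7, 5, 4, 1, 5, 4, 3, 5, 0, 4, 5, 7, 2, 4, 3, 7, 0, 4, 6, 3, 4, 3, 5, 0, 4, 2, 3,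 7, 6, 2, 6, 7, 3, 2, 4, 1, 5, 3, 4, 3, 6, 4, 1, 7, 3, 4, 2, 7, 5, 4, 1, 5, 4, 3, 5, 0, 4, 5, 7, 2, 4, 3, 7, 0, 4, 6, 3, 4, 3, 5, 0, 4, 2, 3, 7, 6, 2, 6, 7, 3, 2, 4, 1, 5, 3, 4, 3, 6, 4, 1, 7, 3, 4, 2, 7, 5, 4, 1, 5, 3, 4, 5, 0, 4, 5, 7, 2, 4, 3, 7, 0, 4, 6, 3, 4, 3, 5, 0, 4, 2, 3, 7, 6, 2, 6, 7, 3, 2, 4, 1, 5, 3, 4, 3, 6, 4, 1, 7, 3, 4, 2, 7, 5, 4, 1, 5, 4, 3, 5, 0, 4, 5, 7, 2, 4, 3, 7, 0, 4, 6, 3, 4, 3, 5, 0, 4, 2, 3, 7, 6, 2, 6, 7, 3, 2, 4, 1, 5, 3, 4, 3, 6, 4, 1, 7, 3, 4, 2, 7, 5, 4, 1, 5, 3, 4, 5, 0, 4, 5, 7, 2, 4, 3, 7, 0, 4, 6, 3, 4, 3, 5, 0, 4, 2, 3, 7, 6, 2, 6, 7, 3, 2, 4, 1, 5, 3, 4, 3, 6, 4, 1,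 7, 3, 4, 2, 7, 5, 4, 1, 5, 4, 3, 5, 0, 4, 5, 7, 2, 4, 3, 7, 0, 4, 6, 3, 4, 3, 5, 0, 4, 2, 3, 7, 6, 2, 6, 7, 3, 2, 4, 1, 5, 3, 4, 3, 6, 4, 1, 7, 3, 4, 2, 7, 5, 4, 1, 5, 4, 3, 5, 0, 4, 5, 7, 2, 4, 3, 7, 0, 4, 6, 3, 4, 3, 5, 0, 4, 2, 3, 7, 6, 2, 6, 7, 3, 2, 4, 1, 5, 3, 4, 3, 6, 4, 1, 7, 3, 4, 2, 7, 5, 4, 1, 5, 3, 4, 5, 0, 4, 5, 7, 2, 4, 3, 7, 0, 4, 6, 3, 4, 3, 5, 0, 4, 2, 3, 7, 6, 2, 6, 7, 3, 2, 4, 1, 5, 3, 4, 3, 6, 4, 1, 7, 3, 4, 2, 7, 5, 4, 1, 5, 3, 4, 5, 0, 4, 5, 7, 2, 4, 3, 7, 0, 4, 6, 3, 4, 3, 5, 0, 4, 2, 3, 7, 6, 2, 6, 7, 3, 2, 4, 1, 5, 3, 4, 3, 6, 4, 1, 7, 3, 4, 2, 7, 5, 4, 1, 5, 4, 3, 5, 0, 4, 5, 7,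 2, 4, 3, 7, 0, 4, 6, 3, 4, 3, 5, 0, 4, 2, 3, 7, 6, 2, 6, 7, 3, 2, 4, 1, 5, 3, 4, 3, 6, 4, 1, 7, 3, 4, 2, 7, 5, 4, 1, 5, 3, 4, 5, 0, 4, 5, 7, 2, 4, 3, 7, 0, 4, 6, 3, 4, 3, 5, 0, 4, 2, 3, 7, 6, 2]
  | _ => [6, 7, 3, 2, 4, 1, 5, 3, 4, 3, 6, 4, 1, 7, 3, 4, 2, 7, 5, 4, 1, 5, 3, 4, 5, 0, 4, 5, 7, 2, 4, 3, 7, 0, 4, 6, 3, 4, 3, 5, 0, 4, 2, 3, 7, 6, 2, 6, 7, 3, 2, 4, 1, 5, 3, 4, 3, 6, 4, 1, 7, 3, 4, 2, 7, 5, 4, 1, 5, 3, 4, 5, 0, 4, 5, 7, 2, 4, 3, 7, 0, 4, 6, 3, 4, 3, 5, 0, 4, 2, 3, 7, 6, 2, 6, 7, 3, 2, 4, 1, 5, 3, 4, 3, 6, 4, 1, 7, 3, 4, 2, 7, 5, 4, 1, 5, 4, 3, 5, 0, 4, 5, 7, 2, 4, 3, 7, 0, 4, 6, 3, 4, 3, 5, 0, 4,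 2, 3, 7, 6, 2, 6, 7, 3, 2, 4, 1, 5, 3, 4, 3, 6, 4, 1, 7, 3, 4, 2, 7, 5, 4, 1, 5, 4, 3, 5, 0, 4, 5, 7, 2, 4, 3, 7, 0, 4, 6, 3, 4, 3, 5, 0, 4, 2, 3, 7, 6, 2, 6, 7, 3, 2, 4, 1, 5, 3, 4, 3, 6, 4, 1, 7, 3, 4, 2, 7, 5, 4, 1, 5, 3, 4, 5, 0, 4, 5, 7, 2, 4, 3, 7, 0, 4, 6, 3, 4, 3, 5, 0, 4, 2, 3, 7, 6, 2, 6, 7, 3, 2, 4, 1, 5, 3, 4, 3, 6, 4, 1, 7, 3, 4, 2, 7, 5, 4, 1, 5, 4, 3, 5, 0, 4, 5, 7, 2, 4, 3, 7, 0, 4, 6, 3, 4, 3, 5, 0, 4, 2, 3, 7, 6, 2, 6, 7, 3, 2, 4, 1, 5, 3, 4, 3, 6, 4, 1, 7, 3, 4, 2, 7, 5, 4, 1, 5, 3, 4, 5, 0, 4, 5, 7, 2, 4, 3, 7, 0, 4, 6, 3, 4, 3, 5, 0, 4, 2, 3, 7, 6, 2, 6, 7, 3, 2, 4, 1, 5, 3, 4, 3, 6,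 4, 1, 7, 3, 4, 2, 7, 5, 4, 1, 5, 4, 3, 5, 0, 4, 5, 7, 2, 4, 3, 7, 0, 4, 6, 3, 4, 3, 5, 0, 4, 2, 3, 7, 6, 2, 6, 7, 3, 2, 4, 1, 5, 3, 4, 3, 6, 4, 1, 7, 3, 4, 2, 7, 5, 4, 1, 5, 3, 4, 5, 0, 4, 5, 7, 2, 4, 3, 7, 0, 4, 6, 3, 4, 3, 5, 0, 4, 2, 3, 7, 6, 2, 6, 7, 3, 2, 4, 1, 5, 3, 4, 3, 6, 4, 1, 7, 3, 4, 2, 7, 5, 4, 1, 5, 3, 4, 5, 0, 4, 5, 7, 2, 4, 3, 7, 0, 4, 6, 3, 4, 3, 5, 0, 4, 2, 3, 7, 6, 2, 6, 7, 3, 2, 4, 1, 5, 3, 4, 3, 6, 4, 1, 7, 3, 4, 2, 7, 5, 4, 1, 5, 4, 3, 5, 0, 4, 5, 7, 2, 4, 3, 7, 0, 4, 6, 3, 4, 3, 5, 0, 4, 2, 3, 7, 6, 2, 6, 7, 3, 2, 4, 1, 5, 3, 4, 3, 6, 4, 1, 7, 3, 4, 2, 7, 5, 4, 1, 5, 3, 4, 5, 0, 4,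 5, 7, 2, 4, 3, 7, 0, 4, 6, 3, 4, 3, 5, 0, 4, 2, 3, 7, 6, 2, 6, 7, 3, 2, 4, 1, 5, 3, 4, 3, 6, 4, 1, 7, 3, 4, 2, 7, 5, 4, 1, 5, 3, 4, 5, 0, 4, 5, 7, 2, 4, 3, 7, 0, 4, 6, 3, 4, 3, 5, 0, 4, 2, 3, 7, 6, 2, 6, 7, 3, 2, 4, 1, 5, 3, 4, 3, 6, 4, 1, 7, 3, 4, 2, 7, 5, 4, 1, 5, 4, 3, 5, 0, 4, 5, 7, 2, 4, 3, 7, 0, 4, 6, 3, 4, 3, 5, 0, 4, 2, 3, 7, 6, 2, 6, 7, 3, 2, 4, 1, 5, 3, 4, 3, 6, 4, 1, 7, 3, 4, 2, 7, 5, 4, 1, 5, 4, 3, 5, 0, 4, 5, 7, 2, 4, 3, 7, 0, 4, 6, 3, 4, 3, 5, 0, 4, 2, 3, 7, 6, 2, 6, 7, 3, 2, 4, 1, 5, 3, 4, 3, 6, 4, 1, 7, 3, 4, 2, 7, 5, 4, 1, 5, 3, 4, 5, 0, 4, 5, 7, 2, 4, 3, 7, 0, 4, 6, 3, 4, 3, 5, 0, 4, 2,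 3, 7, 6, 2, 6, 7, 3, 2, 4, 1, 5, 3, 4, 3, 6, 4, 1, 7, 3, 4, 2, 7, 5, 4, 1, 5, 4, 3, 5, 0, 4, 5, 7, 2, 4, 3, 7, 0, 4, 6, 3, 4, 3, 5, 0, 4, 2, 3, 7, 6, 2, 6, 7, 3, 2, 4, 1, 5, 3, 4, 3, 6, 4, 1, 7, 3, 4, 2, 7, 5, 4, 1, 5, 3, 4, 5, 0, 4, 5, 7, 2, 4, 3, 7, 0, 4, 6, 3, 4, 3, 5, 0, 4, 2, 3, 7, 6, 2, 6, 7, 3, 2, 4, 1, 5, 3, 4, 3, 6, 4, 1, 7, 3, 4, 2, 7, 5, 4, 1, 5, 3, 4, 5, 0, 4, 5, 7, 2, 4, 3, 7, 0, 4, 6, 3, 4, 3, 5, 0, 4, 2, 3, 7, 6, 2, 6, 7, 3, 2, 4, 1, 5, 3, 4, 3, 6, 4, 1, 7, 3, 4, 2, 7, 5, 4, 1, 5, 4, 3, 5, 0, 4, 5, 7, 2, 4, 3, 7, 0, 4, 6, 3, 4, 3, 5, 0, 4, 2, 3, 7, 6, 2, 6, 7, 3, 2, 4, 1, 5, 3, 4, 3, 6, 4,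 1, 7, 3, 4, 2, 7, 5, 4, 1, 5, 4, 3, 5, 0, 4, 5, 7, 2, 4, 3, 7, 0, 4, 6, 3, 4, 3, 5, 0, 4, 2, 3, 7, 6]

end Cfsg.Agent.Helper17.ONSubgroups
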