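import Mathlib
import Cfsg.Agent.Helper17.ONOrd.SubJ1W

/-! relator checks, part 1 (about 28970 letters per base point). -/

set_option autoImplicit false
set_option linter.all false
set_option maxRecDepth 100000

noncomputable section

namespace Cfsg.Agent.Helper17.ONSubgroups

open Cfsg.Spor Cfsg.Agent.Helper17.SmallSpor

theorem rJ_0_0_lt : ((relw jwJ [0, 0] 1).all fun l => decide (l < ONTC.nl)) = true := by
  decide +kernel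

theorem rJ_0_0_b139 : ONTC.evalw (relw jwJ [0, 0] 1) 139 = 139 := by decide +kernel

theorem rJ_0_0_b12 : ONTC.evalw (relw jwJ [0, 0] 1) 12 = 12 := by decide +kernel

theorem rJ_0_0_b0 : ONTC.evalw (relw jwJ [0, 0] 1) 0 = 0 := by decide +kernel

theorem rJ_0_0_ok : ONOrd.chkBase (relw jwJ [0, 0] 1) = true :=
  chk_of rJ_0_0_lt rJ_0_0_b139 rJ_0_0_b12 rJ_0_0_b0

theorem cJ_0_0 : (ONTC.prodw (jwJ 0) * ONTC.prodw (jwJ 0)) ^ 1 = 1 :=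
  pair_pow jwJ 0 0 1 rJ_0_0_ok

theorem rJ_0_1_lt : ((relw jwJ [0, 1] 3).all fun l => decide (l < ONTC.nl)) = true := by
  decide +kernel

theorem rJ_0_1_b139 : ONTC.evalw (relw jwJ [0, 1] 3) 139 = 139 := by decide +kernel

theorem rJ_0_1_b12 : ONTC.evalw (relw jwJ [0, 1] 3) 12 = 12 := by decide +kernel

theorem rJ_0_1_b0 : ONTC.evalw (relw jwJ [0, 1] 3) 0 = 0 := by decide +kernel

theorem rJ_0_1_ok : ONOrd.chkBase (relw jwJ [0, 1] 3) = true :=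
  chk_of rJ_0_1_lt rJ_0_1_b139 rJ_0_1_b12 rJ_0_1_b0

theorem cJ_0_1 : (ONTC.prodw (jwJ 0) * ONTC.prodw (jwJ 1)) ^ 3 = 1 :=
  pair_pow jwJ 0 1 3 rJ_0_1_ok

theorem rJ_0_2_lt : ((relw jwJ [0, 2] 2).all fun l => decide (l < ONTC.nl)) = true := by
  decide +kernel

theorem rJ_0_2_b139 : ONTC.evalw (relw jwJ [0, 2] 2) 139 = 139 := by decide +kernel

theorem rJ_0_2_b12 : ONTC.evalw (relw jwJ [0, 2] 2) 12 = 12 := by decide +kernel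

theorem rJ_0_2_b0 : ONTC.evalw (relw jwJ [0, 2] 2) 0 = 0 := by decide +kernel

theorem rJ_0_2_ok : ONOrd.chkBase (relw jwJ [0, 2] 2) = true :=
  chk_of rJ_0_2_lt rJ_0_2_b139 rJ_0_2_b12 rJ_0_2_b0

theorem cJ_0_2 : (ONTC.prodw (jwJ 0) * ONTC.prodw (jwJ 2)) ^ 2 = 1 :=
  pair_pow jwJ 0 2 2 rJ_0_2_ok

theorem rJ_0_3_lt : ((relw jwJ [0, 3] 2).all fun l => decide (l < ONTC.nl)) = true := by
  decide +kernel

theorem rJ_0_3_b139 : ONTC.evalw (relw jwJ [0, 3] 2) 139 = 139 := by decide +kernel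

theorem rJ_0_3_b12 : ONTC.evalw (relw jwJ [0, 3] 2) 12 = 12 := by decide +kernel

theorem rJ_0_3_b0 : ONTC.evalw (relw jwJ [0, 3] 2) 0 = 0 := by decide +kernel

theorem rJ_0_3_ok : ONOrd.chkBase (relw jwJ [0, 3] 2) = true :=
  chk_of rJ_0_3_lt rJ_0_3_b139 rJ_0_3_b12 rJ_0_3_b0

theorem cJ_0_3 : (ONTC.prodw (jwJ 0) * ONTC.prodw (jwJ 3)) ^ 2 = 1 :=
  pair_pow jwJ 0 3 2 rJ_0_3_ok

theorem rJ_0_4_lt : ((relw jwJ [0, 4] 2).all fun l => decide (l < ONTC.nl)) = true := by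
  decide +kernel

theorem rJ_0_4_b139 : ONTC.evalw (relw jwJ [0, 4] 2) 139 = 139 := by decide +kernel

theorem rJ_0_4_b12 : ONTC.evalw (relw jwJ [0, 4] 2) 12 = 12 := by decide +kernel

theorem rJ_0_4_b0 : ONTC.evalw (relw jwJ [0, 4] 2) 0 = 0 := by decide +kernel

theorem rJ_0_4_ok : ONOrd.chkBase (relw jwJ [0, 4] 2) = true :=
  chk_of rJ_0_4_lt rJ_0_4_b139 rJ_0_4_b12 rJ_0_4_b0

theorem cJ_0_4 : (ONTC.prodw (jwJ 0) * ONTC.prodw (jwJ 4)) ^ 2 = 1 :=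
  pair_pow jwJ 0 4 2 rJ_0_4_ok

theorem rJ_1_1_lt : ((relw jwJ [1, 1] 1).all fun l => decide (l < ONTC.nl)) = true := by
  decide +kernel

theorem rJ_1_1_b139 : ONTC.evalw (relw jwJ [1, 1] 1) 139 = 139 := by decide +kernel

theorem rJ_1_1_b12 : ONTC.evalw (relw jwJ [1, 1] 1) 12 = 12 := by decide +kernel

theorem rJ_1_1_b0 : ONTC.evalw (relw jwJ [1, 1] 1) 0 = 0 := by decide +kernel

theorem rJ_1_1_ok : ONOrd.chkBase (relw jwJ [1, 1] 1) = true :=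
  chk_of rJ_1_1_lt rJ_1_1_b139 rJ_1_1_b12 rJ_1_1_b0

theorem cJ_1_1 : (ONTC.prodw (jwJ 1) * ONTC.prodw (jwJ 1)) ^ 1 = 1 :=
  pair_pow jwJ 1 1 1 rJ_1_1_ok

theorem rJ_1_2_lt : ((relw jwJ [1, 2] 5).all fun l => decide (l < ONTC.nl)) = true := by
  decide +kernel

theorem rJ_1_2_b139 : ONTC.evalw (relw jwJ [1, 2] 5) 139 = 139 := by decide +kernel

theorem rJ_1_2_b12 : ONTC.evalw (relw jwJ [1, 2] 5) 12 = 12 := by decide +kernel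

theorem rJ_1_2_b0 : ONTC.evalw (relw jwJ [1, 2] 5) 0 = 0 := by decide +kernel

theorem rJ_1_2_ok : ONOrd.chkBase (relw jwJ [1, 2] 5) = true :=
  chk_of rJ_1_2_lt rJ_1_2_b139 rJ_1_2_b12 rJ_1_2_b0

theorem cJ_1_2 : (ONTC.prodw (jwJ 1) * ONTC.prodw (jwJ 2)) ^ 5 = 1 :=
  pair_pow jwJ 1 2 5 rJ_1_2_ok

theorem rJ_1_3_lt : ((relw jwJ [1, 3] 2).all fun l => decide (l < ONTC.nl)) = true := by
  decide +kernel

theorem rJ_1_3_b139 : ONTC.evalw (relw jwJ [1, 3] 2) 139 = 139 := by decide +kernel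

theorem rJ_1_3_b12 : ONTC.evalw (relw jwJ [1, 3] 2) 12 = 12 := by decide +kernel

theorem rJ_1_3_b0 : ONTC.evalw (relw jwJ [1, 3] 2) 0 = 0 := by decide +kernel

theorem rJ_1_3_ok : ONOrd.chkBase (relw jwJ [1, 3] 2) = true :=
  chk_of rJ_1_3_lt rJ_1_3_b139 rJ_1_3_b12 rJ_1_3_b0

theorem cJ_1_3 : (ONTC.prodw (jwJ 1) * ONTC.prodw (jwJ 3)) ^ 2 = 1 :=
  pair_pow jwJ 1 3 2 rJ_1_3_ok

theorem rJ_1_4_lt : ((relw jwJ [1, 4] 2).all fun l => decide (l < ONTC.nl)) = true := by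
  decide +kernel

theorem rJ_1_4_b139 : ONTC.evalw (relw jwJ [1, 4] 2) 139 = 139 := by decide +kernel

theorem rJ_1_4_b12 : ONTC.evalw (relw jwJ [1, 4] 2) 12 = 12 := by decide +kernel

theorem rJ_1_4_b0 : ONTC.evalw (relw jwJ [1, 4] 2) 0 = 0 := by decide +kernel

theorem rJ_1_4_ok : ONOrd.chkBase (relw jwJ [1, 4] 2) = true :=
  chk_of rJ_1_4_lt rJ_1_4_b139 rJ_1_4_b12 rJ_1_4_b0

theorem cJ_1_4 : (ONTC.prodw (jwJ 1) * ONTC.prodw (jwJ 4)) ^ 2 = 1 :=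
  pair_pow jwJ 1 4 2 rJ_1_4_ok

end Cfsg.Agent.Helper17.ONSubgroups
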