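import Mathlib
import Cfsg.Agent.Helper17.ONOrd.SubJ1W

/-! relator checks, part 2 (about 24951 letters per base point). -/

set_option autoImplicit false
set_option linter.all false
set_option maxRecDepth 100000

noncomputable section

namespace Cfsg.Agent.Helper17.ONSubgroups

open Cfsg.Spor Cfsg.Agent.Helper17.SmallSpor

theorem rJ_2_2_lt : ((relw jwJ [2, 2] 1).all fun l => decide (l < ONTC.nl)) = true := by
  decide +kernel

theorem rJ_2_2_b139 : ONTC.evalw (relw jwJ [2, 2] 1) 139 = 139 := by decide +kernel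

theorem rJ_2_2_b12 : ONTC.evalw (relw jwJ [2, 2] 1) 12 = 12 := by decide +kernel

theorem rJ_2_2_b0 : ONTC.evalw (relw jwJ [2, 2] 1) 0 = 0 := by decide +kernel

theorem rJ_2_2_ok : ONOrd.chkBase (relw jwJ [2, 2] 1) = true :=
  chk_of rJ_2_2_lt rJ_2_2_b139 rJ_2_2_b12 rJ_2_2_b0

theorem cJ_2_2 : (ONTC.prodw (jwJ 2) * ONTC.prodw (jwJ 2)) ^ 1 = 1 :=
  pair_pow jwJ 2 2 1 rJ_2_2_ok

theorem rJ_2_3_lt : ((relw jwJ [2, 3] 3).all fun l => decide (l < ONTC.nl)) = true := by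
  decide +kernel

theorem rJ_2_3_b139 : ONTC.evalw (relw jwJ [2, 3] 3) 139 = 139 := by decide +kernel

theorem rJ_2_3_b12 : ONTC.evalw (relw jwJ [2, 3] 3) 12 = 12 := by decide +kernel

theorem rJ_2_3_b0 : ONTC.evalw (relw jwJ [2, 3] 3) 0 = 0 := by decide +kernel

theorem rJ_2_3_ok : ONOrd.chkBase (relw jwJ [2, 3] 3) = true :=
  chk_of rJ_2_3_lt rJ_2_3_b139 rJ_2_3_b12 rJ_2_3_b0

theorem cJ_2_3 : (ONTC.prodw (jwJ 2) * ONTC.prodw (jwJ 3)) ^ 3 = 1 :=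
  pair_pow jwJ 2 3 3 rJ_2_3_ok

theorem rJ_2_4_lt : ((relw jwJ [2, 4] 2).all fun l => decide (l < ONTC.nl)) = true := by
  decide +kernel

theorem rJ_2_4_b139 : ONTC.evalw (relw jwJ [2, 4] 2) 139 = 139 := by decide +kernel

theorem rJ_2_4_b12 : ONTC.evalw (relw jwJ [2, 4] 2) 12 = 12 := by decide +kernel

theorem rJ_2_4_b0 : ONTC.evalw (relw jwJ [2, 4] 2) 0 = 0 := by decide +kernel

theorem rJ_2_4_ok : ONOrd.chkBase (relw jwJ [2, 4] 2) = true :=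
  chk_of rJ_2_4_lt rJ_2_4_b139 rJ_2_4_b12 rJ_2_4_b0

theorem cJ_2_4 : (ONTC.prodw (jwJ 2) * ONTC.prodw (jwJ 4)) ^ 2 = 1 :=
  pair_pow jwJ 2 4 2 rJ_2_4_ok

theorem rJ_3_3_lt : ((relw jwJ [3, 3] 1).all fun l => decide (l < ONTC.nl)) = true := by
  decide +kernel

theorem rJ_3_3_b139 : ONTC.evalw (relw jwJ [3, 3] 1) 139 = 139 := by decide +kernel

theorem rJ_3_3_b12 : ONTC.evalw (relw jwJ [3, 3] 1) 12 = 12 := by decide +kernel

theorem rJ_3_3_b0 : ONTC.evalw (relw jwJ [3, 3] 1) 0 = 0 := by decide +kernel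

theorem rJ_3_3_ok : ONOrd.chkBase (relw jwJ [3, 3] 1) = true :=
  chk_of rJ_3_3_lt rJ_3_3_b139 rJ_3_3_b12 rJ_3_3_b0

theorem cJ_3_3 : (ONTC.prodw (jwJ 3) * ONTC.prodw (jwJ 3)) ^ 1 = 1 :=
  pair_pow jwJ 3 3 1 rJ_3_3_ok

theorem rJ_3_4_lt : ((relw jwJ [3, 4] 5).all fun l => decide (l < ONTC.nl)) = true := by
  decide +kernel

theorem rJ_3_4_b139 : ONTC.evalw (relw jwJ [3, 4] 5) 139 = 139 := by decide +kernel

theorem rJ_3_4_b12 : ONTC.evalw (relw jwJ [3, 4] 5) 12 = 12 := by decide +kernel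

theorem rJ_3_4_b0 : ONTC.evalw (relw jwJ [3, 4] 5) 0 = 0 := by decide +kernel

theorem rJ_3_4_ok : ONOrd.chkBase (relw jwJ [3, 4] 5) = true :=
  chk_of rJ_3_4_lt rJ_3_4_b139 rJ_3_4_b12 rJ_3_4_b0

theorem cJ_3_4 : (ONTC.prodw (jwJ 3) * ONTC.prodw (jwJ 4)) ^ 5 = 1 :=
  pair_pow jwJ 3 4 5 rJ_3_4_ok

theorem rJ_4_4_lt : ((relw jwJ [4, 4] 1).all fun l => decide (l < ONTC.nl)) = true := by
  decide +kernel

theorem rJ_4_4_b139 : ONTC.evalw (relw jwJ [4, 4] 1) 139 = 139 := by decide +kernel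

theorem rJ_4_4_b12 : ONTC.evalw (relw jwJ [4, 4] 1) 12 = 12 := by decide +kernel

theorem rJ_4_4_b0 : ONTC.evalw (relw jwJ [4, 4] 1) 0 = 0 := by decide +kernel

theorem rJ_4_4_ok : ONOrd.chkBase (relw jwJ [4, 4] 1) = true :=
  chk_of rJ_4_4_lt rJ_4_4_b139 rJ_4_4_b12 rJ_4_4_b0

theorem cJ_4_4 : (ONTC.prodw (jwJ 4) * ONTC.prodw (jwJ 4)) ^ 1 = 1 :=
  pair_pow jwJ 4 4 1 rJ_4_4_ok

end Cfsg.Agent.Helper17.ONSubgroups
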