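import Mathlib
import Cfsg.Agent.Helper17.ONOrd.SubJ1W

/-! relator checks, part 3 (about 22335 letters per base point). -/

set_option autoImplicit false
set_option linter.all false
set_option maxRecDepth 100000

noncomputable section

namespace Cfsg.Agent.Helper17.ONSubgroups

open Cfsg.Spor Cfsg.Agent.Helper17.SmallSpor

theorem xJ_0_lt : ((relw jwJ [0, 1, 2] 5).all fun l => decide (l < ONTC.nl)) = true := by
  decide +kernel

theorem xJ_0_b139 : ONTC.evalw (relw jwJ [0, 1, 2] 5) 139 = 139 := by decide +kernel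

theorem xJ_0_b12 : ONTC.evalw (relw jwJ [0, 1, 2] 5) 12 = 12 := by decide +kernel

theorem xJ_0_b0 : ONTC.evalw (relw jwJ [0, 1, 2] 5) 0 = 0 := by decide +kernel

theorem xJ_0_ok : ONOrd.chkBase (relw jwJ [0, 1, 2] 5) = true :=
  chk_of xJ_0_lt xJ_0_b139 xJ_0_b12 xJ_0_b0

theorem xJ_1_lt : ((relw jwJ [1, 2, 3] 5).all fun l => decide (l < ONTC.nl)) = true := by
  decide +kernel

theorem xJ_1_b139 : ONTC.evalw (relw jwJ [1, 2, 3] 5) 139 = 139 := by decide +kernel

theorem xJ_1_b12 : ONTC.evalw (relw jwJ [1, 2, 3] 5) 12 = 12 := by decide +kernel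

theorem xJ_1_b0 : ONTC.evalw (relw jwJ [1, 2, 3] 5) 0 = 0 := by decide +kernel

theorem xJ_1_ok : ONOrd.chkBase (relw jwJ [1, 2, 3] 5) = true :=
  chk_of xJ_1_lt xJ_1_b139 xJ_1_b12 xJ_1_b0

end Cfsg.Agent.Helper17.ONSubgroups
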