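import Mathlib
import Cfsg.Agent.Helper17.ONOrd.SubJ1R1
import Cfsg.Agent.Helper17.ONOrd.SubJ1R2
import Cfsg.Agent.Helper17.ONOrd.SubJ1R3
import Cfsg.Agent.Helper17.ONOrd.SubJ1R4
import Cfsg.Agent.Helper17.J1Ord.Simple

/-! the presented `J1P` embeds in the presented O'Nan group. -/

set_option autoImplicit false
set_option linter.all false
set_option maxRecDepth 100000

noncomputable section

namespace Cfsg.Agent.Helper17.ONSubgroups

open Cfsg.Spor Cfsg.Agent.Helper17.SmallSpor

def fJ (x : J1P.Gen) : ONTC.G := ONTC.prodw (jwJ (J1PTC.idx x))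

theorem relJ : ∀ r ∈ J1PTC.Rels, FreeGroup.lift fJ r = 1 := by
  intro r hr
  rcases hr with ⟨x, _, y, _, rfl⟩ | hr
  · rw [map_pow, map_mul, FreeGroup.lift_apply_of, FreeGroup.lift_apply_of]
    cases x <;> cases y
    · rw [show coxLabel J1P.edges J1P.Gen.a J1P.Gen.a = 1 from by decide]
      exact cJ_0_0
    · rw [show coxLabel J1P.edges J1P.Gen.a J1P.Gen.b = 3 from by decide]
      exact cJ_0_1
    · rw [show coxLabel J1P.edges J1P.Gen.a J1P.Gen.c = 2 from by decide]
      exact cJ_0_2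
    · rw [show coxLabel J1P.edges J1P.Gen.a J1P.Gen.d = 2 from by decide]
      exact cJ_0_3
    · rw [show coxLabel J1P.edges J1P.Gen.a J1P.Gen.e = 2 from by decide]
      exact cJ_0_4
    · rw [show coxLabel J1P.edges J1P.Gen.b J1P.Gen.a = 3 from by decide]
      exact pow_swap cJ_0_1
    · rw [show coxLabel J1P.edges J1P.Gen.b J1P.Gen.b = 1 from by decide]
      exact cJ_1_1
    · rw [show coxLabel J1P.edges J1P.Gen.b J1P.Gen.c = 5 from by decide]
      exact cJ_1_2
    · rw [show coxLabel J1P.edges J1P.Gen.b J1P.Gen.d = 2 from by decide]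
      exact cJ_1_3
    · rw [show coxLabel J1P.edges J1P.Gen.b J1P.Gen.e = 2 from by decide]
      exact cJ_1_4
    · rw [show coxLabel J1P.edges J1P.Gen.c J1P.Gen.a = 2 from by decide]
      exact pow_swap cJ_0_2
    · rw [show coxLabel J1P.edges J1P.Gen.c J1P.Gen.b = 5 from by decide]
      exact pow_swap cJ_1_2
    · rw [show coxLabel J1P.edges J1P.Gen.c J1P.Gen.c = 1 from by decide]
      exact cJ_2_2
    · rw [show coxLabel J1P.edges J1P.Gen.c J1P.Gen.d = 3 from by decide]
      exact cJ_2_3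
    · rw [show coxLabel J1P.edges J1P.Gen.c J1P.Gen.e = 2 from by decide]
      exact cJ_2_4
    · rw [show coxLabel J1P.edges J1P.Gen.d J1P.Gen.a = 2 from by decide]
      exact pow_swap cJ_0_3
    · rw [show coxLabel J1P.edges J1P.Gen.d J1P.Gen.b = 2 from by decide]
      exact pow_swap cJ_1_3
    · rw [show coxLabel J1P.edges J1P.Gen.d J1P.Gen.c = 3 from by decide]
      exact pow_swap cJ_2_3
    · rw [show coxLabel J1P.edges J1P.Gen.d J1P.Gen.d = 1 from by decide]
      exact cJ_3_3
    · rw [show coxLabel J1P.edges J1P.Gen.d J1P.Gen.e = 5 from by decide]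
      exact cJ_3_4
    · rw [show coxLabel J1P.edges J1P.Gen.e J1P.Gen.a = 2 from by decide]
      exact pow_swap cJ_0_4
    · rw [show coxLabel J1P.edges J1P.Gen.e J1P.Gen.b = 2 from by decide]
      exact pow_swap cJ_1_4
    · rw [show coxLabel J1P.edges J1P.Gen.e J1P.Gen.c = 2 from by decide]
      exact pow_swap cJ_2_4
    · rw [show coxLabel J1P.edges J1P.Gen.e J1P.Gen.d = 5 from by decide]
      exact pow_swap cJ_3_4
    · rw [show coxLabel J1P.edges J1P.Gen.e J1P.Gen.e = 1 from by decide]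
      exact cJ_4_4
  · simp only [Set.mem_setOf_eq, J1P.extra, List.mem_cons, List.mem_singleton, List.not_mem_nil,
      or_false] at hr
    rcases hr with rfl | rfl | rfl
    · have h : FreeGroup.lift fJ ((J1P.a * J1P.b * J1P.c) ^ 5) = pw jwJ [0, 1, 2] ^ 5 := by
        simp only [map_pow, map_mul, FreeGroup.lift_apply_of, pw, mul_one, mul_assoc]
        rfl
      rw [h]
      exact pw_pow_eq_one _ _ _ xJ_0_ok
    · have h : FreeGroup.lift fJ ((J1P.b * J1P.c * J1P.d) ^ 5) = pw jwJ [1, 2, 3] ^ 5 := by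
        simp only [map_pow, map_mul, FreeGroup.lift_apply_of, pw, mul_one, mul_assoc]
        rfl
      rw [h]
      exact pw_pow_eq_one _ _ _ xJ_1_ok
    · have h : FreeGroup.lift fJ (J1P.a * J1P.c * J1P.d * J1P.c * J1P.e * J1P.d * J1P.c * J1P.e * J1P.d * J1P.c * J1P.e * J1P.d * J1P.e * J1P.c * J1P.d * J1P.e) = pw jwJ [0, 2, 3, 2, 4, 3, 2, 4, 3, 2, 4, 3, 4, 2, 3, 4] ^ 1 := by
        simp only [map_mul, FreeGroup.lift_apply_of, pw, mul_one, mul_assoc, pow_one]
        rfl
      rw [h]
      exact pw_pow_eq_one _ _ _ xJ_2_ok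

def psiJ : J1PTC.G →* ONTC.G := PresentedGroup.toGroup relJ

theorem psiJ_of (x : J1P.Gen) : psiJ (PresentedGroup.of x) = fJ x :=
  PresentedGroup.toGroup.of relJ

theorem psiJ_injective : Function.Injective psiJ := by
  haveI := J1Ord.isSimple
  apply PermFin.injective_of_simple psiJ (a := PresentedGroup.of J1P.Gen.a)
  rw [psiJ_of]
  exact prodw_ne_one _ (by decide) 0 (by decide +kernel)

end Cfsg.Agent.Helper17.ONSubgroups
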