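import Mathlib
import Cfsg.Agent.Helper17.ONOrd.SubCommon

/-! words in the O'Nan generators for the images of the generators of `M11P`. -/

set_option autoImplicit false
set_option linter.all false
set_option maxRecDepth 100000

noncomputable section

namespace Cfsg.Agent.Helper17.ONSubgroups

open Cfsg.Spor Cfsg.Agent.Helper17.SmallSpor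

def jwM : ℕ → List ℕ
  | 0 => [2]
  | 1 => [2, 3, 0, 0, 6, 2, 7, 2, 6, 5, 4, 5, 3, 7, 4, 7, 6, 7, 0, 3, 5, 1, 3, 7, 4, 5, 2, 0, 4, 6, 0, 4, 7, 2, 0, 4, 6, 0, 4, 7, 5, 4, 7, 3, 0, 5, 3, 1, 7, 6, 7, 4, 7, 3, 5, 4, 5, 6, 2, 7, 2, 6, 1, 1, 3, 2, 3, 0, 0, 6, 2, 7, 2, 6, 5, 4, 5, 3, 7, 4, 7, 6, 7, 0, 3, 5, 1, 3, 7, 4, 5, 2, 0, 4, 6, 0, 4, 7, 2, 0, 4, 6, 0, 4, 7, 5, 4, 7, 3, 0, 5, 3, 1, 7, 6, 7, 4, 7, 3, 5, 4, 5, 6, 2, 7, 2, 6, 1, 1, 3, 2]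
  | 2 => [3, 0, 0, 6, 2, 7, 2, 6, 5, 4, 5, 3, 7, 4, 7, 6, 7, 0, 3, 5, 1, 3, 7, 4, 5, 2, 0, 4, 6, 0, 4, 7, 5, 4, 7, 3, 0, 5, 3, 1, 7, 6, 7, 4, 7, 3, 5, 4, 5, 6, 2, 7, 2, 6, 1, 1, 3, 2, 3, 0, 0, 6, 2, 7, 2, 6, 5, 4, 5, 3, 7, 4, 7, 6, 7, 0, 3, 5, 1, 3, 7, 4, 5, 7, 4, 1, 6, 4, 1, 2, 5, 4, 7, 3, 0, 5, 3, 1, 7, 6, 7, 4, 7, 3, 5, 4, 5, 6, 2, 7, 2, 6, 1, 1, 3, 2, 3, 0, 0, 6, 2, 7, 2, 6, 5, 4, 5, 3, 7, 4, 7, 6, 7, 0, 3, 5, 1, 3, 7, 4, 5, 2, 0, 4, 6, 0, 4, 7, 5, 4, 7, 3, 0, 5, 3, 1, 7, 6, 7, 4, 7, 3, 5, 4, 5, 6, 2, 7, 2, 6, 1, 1, 3, 2, 3, 0, 0, 6, 2, 7, 2, 6, 5, 4, 5, 3, 7, 4, 7, 6, 7, 0, 3, 5, 1, 3, 7, 4, 5, 7, 4, 1, 6, 4, 1, 2, 5, 4, 7, 3, 0,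 5, 3, 1, 7, 6, 7, 4, 7, 3, 5, 4, 5, 6, 2, 7, 2, 6, 1, 1, 3, 2, 3, 0, 0, 6, 2, 7, 2, 6, 5, 4, 5, 3, 7, 4, 7, 6, 7, 0, 3, 5, 1, 3, 7, 4, 5, 2, 0, 4, 6, 0, 4, 7, 5, 4, 7, 3, 0, 5, 3, 1, 7, 6, 7, 4, 7, 3, 5, 4, 5, 6, 2, 7, 2, 6, 1, 1, 3, 2, 3, 0, 0, 6, 2, 7, 2, 6, 5, 4, 5, 3, 7, 4, 7, 6, 7, 0, 3, 5, 1, 3, 7, 4, 5, 7, 4, 1, 6, 4, 1, 2, 5, 4, 7, 3, 0, 5, 3, 1, 7, 6, 7, 4, 7, 3, 5, 4, 5, 6, 2, 7, 2, 6, 1, 1, 3]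
  | 3 => [2, 3, 0, 0, 6, 2, 7, 2, 6, 5, 4, 5, 3, 7, 4, 7, 6, 7, 0, 3, 5, 1, 3, 7, 4, 5, 2, 0, 4, 6, 0, 4, 7, 2, 0, 4, 6, 0, 4, 7, 5, 4, 7, 3, 0, 5, 3, 1, 7, 6, 7, 4, 7, 3, 5, 4, 5, 6, 2, 7, 2, 6, 1, 1, 3, 2, 3, 0, 0, 6, 2, 7, 2, 6, 5, 4, 5, 3, 7, 4, 7, 6, 7, 0, 3, 5, 1, 3, 7, 4, 5, 2, 0, 4, 6, 0, 4, 7, 2, 0, 4, 6, 0, 4, 7, 5, 4, 7, 3, 0, 5, 3, 1, 7, 6, 7, 4, 7, 3, 5, 4, 5, 6, 2, 7, 2, 6, 1, 1, 3, 2, 3, 0, 0, 6, 2, 7, 2, 6, 5, 4, 5, 3, 7, 4, 7, 6, 7, 0, 3, 5, 1, 3, 7, 4, 5, 2, 0, 4, 6, 0, 4, 7, 2, 0, 4, 6, 0, 4, 7, 5, 4, 7, 3, 0, 5, 3, 1, 7, 6, 7, 4, 7, 3, 5, 4, 5, 6, 2, 7, 2, 6, 1, 1, 3]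
  | _ => [2, 3, 0, 0, 6, 2, 7, 2, 6, 5, 4, 5, 3, 7, 4, 7, 6, 7, 0, 3, 5, 1, 3, 7, 4, 5, 7, 4, 1, 6, 4, 1, 2, 5, 4, 7, 3, 0, 5, 3, 1, 7, 6, 7, 4, 7, 3, 5, 4, 5, 6, 2, 7, 2, 6, 1, 1, 3, 2, 3, 0, 0, 6, 2, 7, 2, 6, 5, 4, 5, 3, 7, 4, 7, 6, 7, 0, 3, 5, 1, 3, 7, 4, 5, 2, 0, 4, 6, 0, 4, 7, 5, 4, 7, 3, 0, 5, 3, 1, 7, 6, 7, 4, 7, 3, 5, 4, 5, 6, 2, 7, 2, 6, 1, 1, 3, 2, 3, 0, 0, 6, 2, 7, 2, 6, 5, 4, 5, 3, 7, 4, 7, 6, 7, 0, 3, 5, 1, 3, 7, 4, 5, 7, 4, 1, 6, 4, 1, 2, 5, 4, 7, 3, 0, 5, 3, 1, 7, 6, 7, 4, 7, 3, 5, 4, 5, 6, 2, 7, 2, 6, 1, 1, 3, 2, 3, 0, 0, 6, 2, 7, 2, 6, 5, 4, 5, 3, 7, 4, 7, 6, 7, 0, 3, 5, 1, 3, 7, 4, 5, 2, 0, 4, 6, 0, 4, 7, 5, 4, 7, 3,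 0, 5, 3, 1, 7, 6, 7, 4, 7, 3, 5, 4, 5, 6, 2, 7, 2, 6, 1, 1, 3, 2]

end Cfsg.Agent.Helper17.ONSubgroups
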