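import Mathlib
import Cfsg.Agent.Helper17.ONOrd.SubM11W

/-! relator checks, part 1 (about 18413 letters per base point). -/

set_option autoImplicit false
set_option linter.all false
set_option maxRecDepth 100000

noncomputable section

namespace Cfsg.Agent.Helper17.ONSubgroups

open Cfsg.Spor Cfsg.Agent.Helper17.SmallSpor

theorem rM_0_0_lt : ((relw jwM [0, 0] 1).all fun l => decide (l < ONTC.nl)) = true := by
  decide +kernel

theorem rM_0_0_b139 : ONTC.evalw (relw jwM [0, 0] 1) 139 = 139 := by decide +kernel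

theorem rM_0_0_b12 : ONTC.evalw (relw jwM [0, 0] 1) 12 = 12 := by decide +kernel

theorem rM_0_0_b0 : ONTC.evalw (relw jwM [0, 0] 1) 0 = 0 := by decide +kernel

theorem rM_0_0_ok : ONOrd.chkBase (relw jwM [0, 0] 1) = true :=
  chk_of rM_0_0_lt rM_0_0_b139 rM_0_0_b12 rM_0_0_b0

theorem cM_0_0 : (ONTC.prodw (jwM 0) * ONTC.prodw (jwM 0)) ^ 1 = 1 :=
  pair_pow jwM 0 0 1 rM_0_0_ok

theorem rM_0_1_lt : ((relw jwM [0, 1] 3).all fun l => decide (l < ONTC.nl)) = true := by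
  decide +kernel

theorem rM_0_1_b139 : ONTC.evalw (relw jwM [0, 1] 3) 139 = 139 := by decide +kernel

theorem rM_0_1_b12 : ONTC.evalw (relw jwM [0, 1] 3) 12 = 12 := by decide +kernel

theorem rM_0_1_b0 : ONTC.evalw (relw jwM [0, 1] 3) 0 = 0 := by decide +kernel

theorem rM_0_1_ok : ONOrd.chkBase (relw jwM [0, 1] 3) = true :=
  chk_of rM_0_1_lt rM_0_1_b139 rM_0_1_b12 rM_0_1_b0

theorem cM_0_1 : (ONTC.prodw (jwM 0) * ONTC.prodw (jwM 1)) ^ 3 = 1 :=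
  pair_pow jwM 0 1 3 rM_0_1_ok

theorem rM_0_2_lt : ((relw jwM [0, 2] 2).all fun l => decide (l < ONTC.nl)) = true := by
  decide +kernel

theorem rM_0_2_b139 : ONTC.evalw (relw jwM [0, 2] 2) 139 = 139 := by decide +kernel

theorem rM_0_2_b12 : ONTC.evalw (relw jwM [0, 2] 2) 12 = 12 := by decide +kernel

theorem rM_0_2_b0 : ONTC.evalw (relw jwM [0, 2] 2) 0 = 0 := by decide +kernel

theorem rM_0_2_ok : ONOrd.chkBase (relw jwM [0, 2] 2) = true :=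
  chk_of rM_0_2_lt rM_0_2_b139 rM_0_2_b12 rM_0_2_b0

theorem cM_0_2 : (ONTC.prodw (jwM 0) * ONTC.prodw (jwM 2)) ^ 2 = 1 :=
  pair_pow jwM 0 2 2 rM_0_2_ok

theorem rM_0_3_lt : ((relw jwM [0, 3] 2).all fun l => decide (l < ONTC.nl)) = true := by
  decide +kernel

theorem rM_0_3_b139 : ONTC.evalw (relw jwM [0, 3] 2) 139 = 139 := by decide +kernel

theorem rM_0_3_b12 : ONTC.evalw (relw jwM [0, 3] 2) 12 = 12 := by decide +kernel

theorem rM_0_3_b0 : ONTC.evalw (relw jwM [0, 3] 2) 0 = 0 := by decide +kernel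

theorem rM_0_3_ok : ONOrd.chkBase (relw jwM [0, 3] 2) = true :=
  chk_of rM_0_3_lt rM_0_3_b139 rM_0_3_b12 rM_0_3_b0

theorem cM_0_3 : (ONTC.prodw (jwM 0) * ONTC.prodw (jwM 3)) ^ 2 = 1 :=
  pair_pow jwM 0 3 2 rM_0_3_ok

theorem rM_0_4_lt : ((relw jwM [0, 4] 3).all fun l => decide (l < ONTC.nl)) = true := by
  decide +kernel

theorem rM_0_4_b139 : ONTC.evalw (relw jwM [0, 4] 3) 139 = 139 := by decide +kernel

theorem rM_0_4_b12 : ONTC.evalw (relw jwM [0, 4] 3) 12 = 12 := by decide +kernel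

theorem rM_0_4_b0 : ONTC.evalw (relw jwM [0, 4] 3) 0 = 0 := by decide +kernel

theorem rM_0_4_ok : ONOrd.chkBase (relw jwM [0, 4] 3) = true :=
  chk_of rM_0_4_lt rM_0_4_b139 rM_0_4_b12 rM_0_4_b0

theorem cM_0_4 : (ONTC.prodw (jwM 0) * ONTC.prodw (jwM 4)) ^ 3 = 1 :=
  pair_pow jwM 0 4 3 rM_0_4_ok

theorem rM_1_1_lt : ((relw jwM [1, 1] 1).all fun l => decide (l < ONTC.nl)) = true := by
  decide +kernel

theorem rM_1_1_b139 : ONTC.evalw (relw jwM [1, 1] 1) 139 = 139 := by decide +kernel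

theorem rM_1_1_b12 : ONTC.evalw (relw jwM [1, 1] 1) 12 = 12 := by decide +kernel

theorem rM_1_1_b0 : ONTC.evalw (relw jwM [1, 1] 1) 0 = 0 := by decide +kernel

theorem rM_1_1_ok : ONOrd.chkBase (relw jwM [1, 1] 1) = true :=
  chk_of rM_1_1_lt rM_1_1_b139 rM_1_1_b12 rM_1_1_b0

theorem cM_1_1 : (ONTC.prodw (jwM 1) * ONTC.prodw (jwM 1)) ^ 1 = 1 :=
  pair_pow jwM 1 1 1 rM_1_1_ok

theorem rM_1_2_lt : ((relw jwM [1, 2] 3).all fun l => decide (l < ONTC.nl)) = true := by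
  decide +kernel

theorem rM_1_2_b139 : ONTC.evalw (relw jwM [1, 2] 3) 139 = 139 := by decide +kernel

theorem rM_1_2_b12 : ONTC.evalw (relw jwM [1, 2] 3) 12 = 12 := by decide +kernel

theorem rM_1_2_b0 : ONTC.evalw (relw jwM [1, 2] 3) 0 = 0 := by decide +kernel

theorem rM_1_2_ok : ONOrd.chkBase (relw jwM [1, 2] 3) = true :=
  chk_of rM_1_2_lt rM_1_2_b139 rM_1_2_b12 rM_1_2_b0

theorem cM_1_2 : (ONTC.prodw (jwM 1) * ONTC.prodw (jwM 2)) ^ 3 = 1 :=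
  pair_pow jwM 1 2 3 rM_1_2_ok

theorem rM_1_3_lt : ((relw jwM [1, 3] 2).all fun l => decide (l < ONTC.nl)) = true := by
  decide +kernel

theorem rM_1_3_b139 : ONTC.evalw (relw jwM [1, 3] 2) 139 = 139 := by decide +kernel

theorem rM_1_3_b12 : ONTC.evalw (relw jwM [1, 3] 2) 12 = 12 := by decide +kernel

theorem rM_1_3_b0 : ONTC.evalw (relw jwM [1, 3] 2) 0 = 0 := by decide +kernel

theorem rM_1_3_ok : ONOrd.chkBase (relw jwM [1, 3] 2) = true :=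
  chk_of rM_1_3_lt rM_1_3_b139 rM_1_3_b12 rM_1_3_b0

theorem cM_1_3 : (ONTC.prodw (jwM 1) * ONTC.prodw (jwM 3)) ^ 2 = 1 :=
  pair_pow jwM 1 3 2 rM_1_3_ok

theorem rM_1_4_lt : ((relw jwM [1, 4] 4).all fun l => decide (l < ONTC.nl)) = true := by
  decide +kernel

theorem rM_1_4_b139 : ONTC.evalw (relw jwM [1, 4] 4) 139 = 139 := by decide +kernel

theorem rM_1_4_b12 : ONTC.evalw (relw jwM [1, 4] 4) 12 = 12 := by decide +kernel

theorem rM_1_4_b0 : ONTC.evalw (relw jwM [1, 4] 4) 0 = 0 := by decide +kernel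

theorem rM_1_4_ok : ONOrd.chkBase (relw jwM [1, 4] 4) = true :=
  chk_of rM_1_4_lt rM_1_4_b139 rM_1_4_b12 rM_1_4_b0

theorem cM_1_4 : (ONTC.prodw (jwM 1) * ONTC.prodw (jwM 4)) ^ 4 = 1 :=
  pair_pow jwM 1 4 4 rM_1_4_ok

theorem rM_2_2_lt : ((relw jwM [2, 2] 1).all fun l => decide (l < ONTC.nl)) = true := by
  decide +kernel

theorem rM_2_2_b139 : ONTC.evalw (relw jwM [2, 2] 1) 139 = 139 := by decide +kernel

theorem rM_2_2_b12 : ONTC.evalw (relw jwM [2, 2] 1) 12 = 12 := by decide +kernel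

theorem rM_2_2_b0 : ONTC.evalw (relw jwM [2, 2] 1) 0 = 0 := by decide +kernel

theorem rM_2_2_ok : ONOrd.chkBase (relw jwM [2, 2] 1) = true :=
  chk_of rM_2_2_lt rM_2_2_b139 rM_2_2_b12 rM_2_2_b0

theorem cM_2_2 : (ONTC.prodw (jwM 2) * ONTC.prodw (jwM 2)) ^ 1 = 1 :=
  pair_pow jwM 2 2 1 rM_2_2_ok

theorem rM_2_3_lt : ((relw jwM [2, 3] 3).all fun l => decide (l < ONTC.nl)) = true := by
  decide +kernel

theorem rM_2_3_b139 : ONTC.evalw (relw jwM [2, 3] 3) 139 = 139 := by decide +kernel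

theorem rM_2_3_b12 : ONTC.evalw (relw jwM [2, 3] 3) 12 = 12 := by decide +kernel

theorem rM_2_3_b0 : ONTC.evalw (relw jwM [2, 3] 3) 0 = 0 := by decide +kernel

theorem rM_2_3_ok : ONOrd.chkBase (relw jwM [2, 3] 3) = true :=
  chk_of rM_2_3_lt rM_2_3_b139 rM_2_3_b12 rM_2_3_b0

theorem cM_2_3 : (ONTC.prodw (jwM 2) * ONTC.prodw (jwM 3)) ^ 3 = 1 :=
  pair_pow jwM 2 3 3 rM_2_3_ok

theorem rM_2_4_lt : ((relw jwM [2, 4] 5).all fun l => decide (l < ONTC.nl)) = true := by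
  decide +kernel

theorem rM_2_4_b139 : ONTC.evalw (relw jwM [2, 4] 5) 139 = 139 := by decide +kernel

theorem rM_2_4_b12 : ONTC.evalw (relw jwM [2, 4] 5) 12 = 12 := by decide +kernel

theorem rM_2_4_b0 : ONTC.evalw (relw jwM [2, 4] 5) 0 = 0 := by decide +kernel

theorem rM_2_4_ok : ONOrd.chkBase (relw jwM [2, 4] 5) = true :=
  chk_of rM_2_4_lt rM_2_4_b139 rM_2_4_b12 rM_2_4_b0

theorem cM_2_4 : (ONTC.prodw (jwM 2) * ONTC.prodw (jwM 4)) ^ 5 = 1 :=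
  pair_pow jwM 2 4 5 rM_2_4_ok

theorem rM_3_3_lt : ((relw jwM [3, 3] 1).all fun l => decide (l < ONTC.nl)) = true := by
  decide +kernel

theorem rM_3_3_b139 : ONTC.evalw (relw jwM [3, 3] 1) 139 = 139 := by decide +kernel

theorem rM_3_3_b12 : ONTC.evalw (relw jwM [3, 3] 1) 12 = 12 := by decide +kernel

theorem rM_3_3_b0 : ONTC.evalw (relw jwM [3, 3] 1) 0 = 0 := by decide +kernel

theorem rM_3_3_ok : ONOrd.chkBase (relw jwM [3, 3] 1) = true :=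
  chk_of rM_3_3_lt rM_3_3_b139 rM_3_3_b12 rM_3_3_b0

theorem cM_3_3 : (ONTC.prodw (jwM 3) * ONTC.prodw (jwM 3)) ^ 1 = 1 :=
  pair_pow jwM 3 3 1 rM_3_3_ok

theorem rM_3_4_lt : ((relw jwM [3, 4] 2).all fun l => decide (l < ONTC.nl)) = true := by
  decide +kernel

theorem rM_3_4_b139 : ONTC.evalw (relw jwM [3, 4] 2) 139 = 139 := by decide +kernel

theorem rM_3_4_b12 : ONTC.evalw (relw jwM [3, 4] 2) 12 = 12 := by decide +kernel

theorem rM_3_4_b0 : ONTC.evalw (relw jwM [3, 4] 2) 0 = 0 := by decide +kernel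

theorem rM_3_4_ok : ONOrd.chkBase (relw jwM [3, 4] 2) = true :=
  chk_of rM_3_4_lt rM_3_4_b139 rM_3_4_b12 rM_3_4_b0

theorem cM_3_4 : (ONTC.prodw (jwM 3) * ONTC.prodw (jwM 4)) ^ 2 = 1 :=
  pair_pow jwM 3 4 2 rM_3_4_ok

theorem rM_4_4_lt : ((relw jwM [4, 4] 1).all fun l => decide (l < ONTC.nl)) = true := by
  decide +kernel

theorem rM_4_4_b139 : ONTC.evalw (relw jwM [4, 4] 1) 139 = 139 := by decide +kernel

theorem rM_4_4_b12 : ONTC.evalw (relw jwM [4, 4] 1) 12 = 12 := by decide +kernel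

theorem rM_4_4_b0 : ONTC.evalw (relw jwM [4, 4] 1) 0 = 0 := by decide +kernel

theorem rM_4_4_ok : ONOrd.chkBase (relw jwM [4, 4] 1) = true :=
  chk_of rM_4_4_lt rM_4_4_b139 rM_4_4_b12 rM_4_4_b0

theorem cM_4_4 : (ONTC.prodw (jwM 4) * ONTC.prodw (jwM 4)) ^ 1 = 1 :=
  pair_pow jwM 4 4 1 rM_4_4_ok

theorem xM_0_lt : ((relw jwM [1, 3, 4, 2, 1, 3, 2, 3, 2, 3, 1, 2, 4] 1).all fun l => decide (l < ONTC.nl)) = true := by
  decide +kernel

theorem xM_0_b139 : ONTC.evalw (relw jwM [1, 3, 4, 2, 1, 3, 2, 3, 2, 3, 1, 2, 4] 1) 139 = 139 := by decide +kernel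

theorem xM_0_b12 : ONTC.evalw (relw jwM [1, 3, 4, 2, 1, 3, 2, 3, 2, 3, 1, 2, 4] 1) 12 = 12 := by decide +kernel

theorem xM_0_b0 : ONTC.evalw (relw jwM [1, 3, 4, 2, 1, 3, 2, 3, 2, 3, 1, 2, 4] 1) 0 = 0 := by decide +kernel

theorem xM_0_ok : ONOrd.chkBase (relw jwM [1, 3, 4, 2, 1, 3, 2, 3, 2, 3, 1, 2, 4] 1) = true :=
  chk_of xM_0_lt xM_0_b139 xM_0_b12 xM_0_b0

theorem xM_1_lt : ((relw jwM [0, 1, 3, 2, 1, 4, 0, 2, 4, 1, 2, 1, 0, 4] 1).all fun l => decide (l < ONTC.nl)) = true := by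
  decide +kernel

theorem xM_1_b139 : ONTC.evalw (relw jwM [0, 1, 3, 2, 1, 4, 0, 2, 4, 1, 2, 1, 0, 4] 1) 139 = 139 := by decide +kernel

theorem xM_1_b12 : ONTC.evalw (relw jwM [0, 1, 3, 2, 1, 4, 0, 2, 4, 1, 2, 1, 0, 4] 1) 12 = 12 := by decide +kernel

theorem xM_1_b0 : ONTC.evalw (relw jwM [0, 1, 3, 2, 1, 4, 0, 2, 4, 1, 2, 1, 0, 4] 1) 0 = 0 := by decide +kernel

theorem xM_1_ok : ONOrd.chkBase (relw jwM [0, 1, 3, 2, 1, 4, 0, 2, 4, 1, 2, 1, 0, 4] 1) = true :=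
  chk_of xM_1_lt xM_1_b139 xM_1_b12 xM_1_b0

end Cfsg.Agent.Helper17.ONSubgroups
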