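import Mathlib
import Cfsg.Agent.Helper17.ONOrd.SubM11R1
import Cfsg.Agent.Helper17.M11Ord.Simple

/-! the presented `M11P` embeds in the presented O'Nan group. -/

set_option autoImplicit false
set_option linter.all false
set_option maxRecDepth 100000

noncomputable section

namespace Cfsg.Agent.Helper17.ONSubgroups

open Cfsg.Spor Cfsg.Agent.Helper17.SmallSpor

def fM (x : M11P.Gen) : ONTC.G := ONTC.prodw (jwM (M11PTC.idx x))

theorem relM : ∀ r ∈ M11PTC.Rels, FreeGroup.lift fM r = 1 := by
  intro r hr
  rcases hr with ⟨x, _, y, _, rfl⟩ | hr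
  · rw [map_pow, map_mul, FreeGroup.lift_apply_of, FreeGroup.lift_apply_of]
    cases x <;> cases y
    · rw [show coxLabel M11P.edges M11P.Gen.a M11P.Gen.a = 1 from by decide]
      exact cM_0_0
    · rw [show coxLabel M11P.edges M11P.Gen.a M11P.Gen.b = 3 from by decide]
      exact cM_0_1
    · rw [show coxLabel M11P.edges M11P.Gen.a M11P.Gen.c = 2 from by decide]
      exact cM_0_2
    · rw [show coxLabel M11P.edges M11P.Gen.a M11P.Gen.d = 2 from by decide]
      exact cM_0_3
    · rw [show coxLabel M11P.edges M11P.Gen.a M11P.Gen.e = 3 from by decide]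
      exact cM_0_4
    · rw [show coxLabel M11P.edges M11P.Gen.b M11P.Gen.a = 3 from by decide]
      exact pow_swap cM_0_1
    · rw [show coxLabel M11P.edges M11P.Gen.b M11P.Gen.b = 1 from by decide]
      exact cM_1_1
    · rw [show coxLabel M11P.edges M11P.Gen.b M11P.Gen.c = 3 from by decide]
      exact cM_1_2
    · rw [show coxLabel M11P.edges M11P.Gen.b M11P.Gen.d = 2 from by decide]
      exact cM_1_3
    · rw [show coxLabel M11P.edges M11P.Gen.b M11P.Gen.e = 4 from by decide]
      exact cM_1_4
    · rw [show coxLabel M11P.edges M11P.Gen.c M11P.Gen.a = 2 from by decide]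
      exact pow_swap cM_0_2
    · rw [show coxLabel M11P.edges M11P.Gen.c M11P.Gen.b = 3 from by decide]
      exact pow_swap cM_1_2
    · rw [show coxLabel M11P.edges M11P.Gen.c M11P.Gen.c = 1 from by decide]
      exact cM_2_2
    · rw [show coxLabel M11P.edges M11P.Gen.c M11P.Gen.d = 3 from by decide]
      exact cM_2_3
    · rw [show coxLabel M11P.edges M11P.Gen.c M11P.Gen.e = 5 from by decide]
      exact cM_2_4
    · rw [show coxLabel M11P.edges M11P.Gen.d M11P.Gen.a = 2 from by decide]
      exact pow_swap cM_0_3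
    · rw [show coxLabel M11P.edges M11P.Gen.d M11P.Gen.b = 2 from by decide]
      exact pow_swap cM_1_3
    · rw [show coxLabel M11P.edges M11P.Gen.d M11P.Gen.c = 3 from by decide]
      exact pow_swap cM_2_3
    · rw [show coxLabel M11P.edges M11P.Gen.d M11P.Gen.d = 1 from by decide]
      exact cM_3_3
    · rw [show coxLabel M11P.edges M11P.Gen.d M11P.Gen.e = 2 from by decide]
      exact cM_3_4
    · rw [show coxLabel M11P.edges M11P.Gen.e M11P.Gen.a = 3 from by decide]
      exact pow_swap cM_0_4
    · rw [show coxLabel M11P.edges M11P.Gen.e M11P.Gen.b = 4 from by decide]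
      exact pow_swap cM_1_4
    · rw [show coxLabel M11P.edges M11P.Gen.e M11P.Gen.c = 5 from by decide]
      exact pow_swap cM_2_4
    · rw [show coxLabel M11P.edges M11P.Gen.e M11P.Gen.d = 2 from by decide]
      exact pow_swap cM_3_4
    · rw [show coxLabel M11P.edges M11P.Gen.e M11P.Gen.e = 1 from by decide]
      exact cM_4_4
  · simp only [Set.mem_setOf_eq, M11P.extra, List.mem_cons, List.mem_singleton, List.not_mem_nil,
      or_false] at hr
    rcases hr with rfl | rfl
    · have h : FreeGroup.lift fM (M11P.b * M11P.d * M11P.e * M11P.c * M11P.b * M11P.d * M11P.c * M11P.d * M11P.c * M11P.d * M11P.b * M11P.c * M11P.e) = pw jwM [1, 3, 4, 2, 1, 3, 2, 3, 2, 3, 1, 2, 4] ^ 1 := by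
        simp only [map_mul, FreeGroup.lift_apply_of, pw, mul_one, mul_assoc, pow_one]
        rfl
      rw [h]
      exact pw_pow_eq_one _ _ _ xM_0_ok
    · have h : FreeGroup.lift fM (M11P.a * M11P.b * M11P.d * M11P.c * M11P.b * M11P.e * M11P.a * M11P.c * M11P.e * M11P.b * M11P.c * M11P.b * M11P.a * M11P.e) = pw jwM [0, 1, 3, 2, 1, 4, 0, 2, 4, 1, 2, 1, 0, 4] ^ 1 := by
        simp only [map_mul, FreeGroup.lift_apply_of, pw, mul_one, mul_assoc, pow_one]
        rfl
      rw [h]
      exact pw_pow_eq_one _ _ _ xM_1_ok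

def psiM : M11PTC.G →* ONTC.G := PresentedGroup.toGroup relM

theorem psiM_of (x : M11P.Gen) : psiM (PresentedGroup.of x) = fM x :=
  PresentedGroup.toGroup.of relM

theorem psiM_injective : Function.Injective psiM := by
  haveI := M11Ord.isSimple
  apply PermFin.injective_of_simple psiM (a := PresentedGroup.of M11P.Gen.a)
  rw [psiM_of]
  exact prodw_ne_one _ (by decide) 2 (by decide +kernel)

end Cfsg.Agent.Helper17.ONSubgroups
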